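import Cfsg.Agent.InertialQuotient.Abelian
import Cfsg.Agent.InertialQuotient.Setup
import Cfsg.Agent.InertialQuotient.RankTransport
import Mathlib.GroupTheory.SpecificGroups.Cyclic

/-!
# The stabilizer of a maximal pair with defect group `C_q × C_q`, `q` a power of two

An automorphism of odd order fixing the involutions is trivial, so the stabilizer acts by a group of
order at most three, semiregularly on the non-identity elements.
-/

set_option autoImplicit false
set_option linter.unusedSectionVars false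
set_option linter.style.haveILetI false

namespace CfsgLib.HomocyclicBlock

open Cfsg CfsgLib.BlockPairs CfsgLib.InertialQuotient
open CfsgLib.Blocks (Res)

universe u

section Algebra

variable {A : Type*} [Group A] (comm : ∀ a b : A, a * b = b * a)

include comm in
/-- An automorphism of odd order of an abelian 2-group fixing the involutions is trivial. -/
theorem eq_one_of_fix_sq (h2 : ∀ a : A, ∃ e : ℕ, a ^ 2 ^ e = 1) {β : MulAut A} {n : ℕ}
    (hn : Odd n) (hβ : β ^ n = 1) (hfix : ∀ c : A, c ^ 2 = 1 → β c = c) : β = 1 := by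
  have key : ∀ e : ℕ, ∀ a : A, a ^ 2 ^ e = 1 → β a = a := by
    intro e
    induction e with
    | zero =>
      intro a ha
      rw [pow_zero, pow_one] at ha
      rw [ha, map_one]
    | succ e ih =>
      intro a ha
      rw [pow_succ', pow_mul] at ha
      have h1 : β (a ^ 2) = a ^ 2 := ih _ ha
      set c := β a * a⁻¹ with hc
      have hc2 : c ^ 2 = 1 := by
        rw [hc, Commute.mul_pow (show Commute (β a) a⁻¹ from comm _ _), ← map_pow, h1, inv_pow,
          mul_inv_cancel]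
      have hcf : β c = c := hfix c hc2
      have hiter : ∀ k : ℕ, (β ^ k) a = c ^ k * a := by
        intro k
        induction k with
        | zero => simp
        | succ k ihk =>
          rw [pow_succ', MulAut.mul_apply, ihk, map_mul, map_pow, hcf, pow_succ, mul_assoc,
            show β a = c * a by rw [hc, inv_mul_cancel_right]]
      have h3 := hiter n
      rw [hβ, MulAut.one_apply] at h3
      have hcn : c ^ n = 1 := (mul_eq_right).1 h3.symm
      obtain ⟨k, hk⟩ := hn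
      rw [hk, pow_succ, pow_mul, hc2, one_pow, one_mul] at hcn
      rwa [hc, mul_inv_eq_one] at hcn
  refine MulEquiv.ext fun a => ?_
  obtain ⟨e, he⟩ := h2 a
  exact key e a he

/-- Odd order makes a square fixed point a fixed point. -/
theorem fix_of_sq_fix {β : MulAut A} {n : ℕ} (hn : Odd n) (hβ : β ^ n = 1) {a : A}
    (h : β (β a) = a) : β a = a := by
  have hev : ∀ k : ℕ, (β ^ (2 * k)) a = a := by
    intro k
    induction k with
    | zero => simp
    | succ k ih =>
      rw [show 2 * (k + 1) = (2 + 2 * k) by ring, pow_add, MulAut.mul_apply, ih, pow_two,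
        MulAut.mul_apply, h]
  obtain ⟨k, rfl⟩ := hn
  have := congrArg (fun γ : MulAut A => γ a) hβ
  simpa only [pow_succ', MulAut.mul_apply, MulAut.one_apply, hev k] using this

variable (h4 : Nat.card {a : A // a ^ 2 = 1} = 4)

include comm h4 in
theorem sq_one_cases {a b c : A} (ha : a ^ 2 = 1) (hb : b ^ 2 = 1) (ha1 : a ≠ 1) (hb1 : b ≠ 1)
    (hab : a ≠ b) (hc : c ^ 2 = 1) : c = 1 ∨ c = a ∨ c = b ∨ c = a * b := by
  classical
  haveI : Finite {a : A // a ^ 2 = 1} := Nat.finite_of_card_ne_zero (by omega)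
  haveI := Fintype.ofFinite {a : A // a ^ 2 = 1}
  have hab2 : (a * b) ^ 2 = 1 := by
    rw [Commute.mul_pow (comm a b), ha, hb, mul_one]
  have hn1 : a * b ≠ 1 := fun h => hab (by
    rw [mul_eq_one_iff_eq_inv] at h
    rw [h]
    exact (eq_inv_of_mul_eq_one_left (by rwa [pow_two] at hb)).symm)
  let s : Finset {a : A // a ^ 2 = 1} := {⟨1, one_pow 2⟩, ⟨a, ha⟩, ⟨b, hb⟩, ⟨a * b, hab2⟩}
  have hs : s.card = 4 := by
    have h1 : a * b ≠ a := fun h => hb1 (mul_eq_left.1 h)
    have h2 : a * b ≠ b := fun h => ha1 (mul_eq_right.1 h)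
    simp [s, Finset.card_insert_of_notMem, Ne.symm ha1, Ne.symm hb1, Ne.symm hn1, hab, Ne.symm h1,
      Ne.symm h2]
  have hu : s = Finset.univ :=
    Finset.eq_univ_of_card _ (by rw [hs, ← Nat.card_eq_fintype_card, h4])
  have := hu ▸ Finset.mem_univ (⟨c, hc⟩ : {a : A // a ^ 2 = 1})
  simpa [s] using this

include h4 in
theorem exists_other {a : A} : ∃ b : A, b ^ 2 = 1 ∧ b ≠ 1 ∧ a ≠ b := by
  classical
  haveI : Finite {a : A // a ^ 2 = 1} := Nat.finite_of_card_ne_zero (by omega)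
  haveI := Fintype.ofFinite {a : A // a ^ 2 = 1}
  by_contra hno
  push Not at hno
  have h : (Finset.univ : Finset {a : A // a ^ 2 = 1}).image Subtype.val ⊆ {1, a} := fun c hc => by
    obtain ⟨⟨d, hd⟩, -, rfl⟩ := Finset.mem_image.1 hc
    by_cases h1 : d = 1
    · simp [h1]
    · simp [← hno d hd h1]
  have := Finset.card_le_card h
  rw [Finset.card_image_of_injective _ Subtype.val_injective, Finset.card_univ,
    ← Nat.card_eq_fintype_card, h4] at this
  have := this.trans Finset.card_le_two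
  omega

include comm h4 in
/-- The cube of an automorphism of odd order fixes the involutions. -/
theorem fix_cube {β : MulAut A} {n : ℕ} (hn : Odd n) (hβ : β ^ n = 1) {a : A} (ha : a ^ 2 = 1) :
    (β ^ 3) a = a := by
  by_cases ha1 : a = 1
  · rw [ha1, map_one]
  simp only [pow_succ, pow_zero, one_mul, MulAut.mul_apply]
  by_cases h1 : β a = a
  · rw [h1, h1, h1]
  have h2 : β (β a) ≠ a := fun h => h1 (fix_of_sq_fix hn hβ h)
  have hb : β a ^ 2 = 1 := by rw [← map_pow, ha, map_one]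
  have hb1 : β a ≠ 1 := by simpa using ha1
  have hc : β (β a) ^ 2 = 1 := by rw [← map_pow, hb, map_one]
  have hd : β (β (β a)) ^ 2 = 1 := by rw [← map_pow, hc, map_one]
  have hcc : β (β a) = a * β a := by
    rcases sq_one_cases comm h4 ha hb ha1 hb1 (Ne.symm h1) hc with h | h | h | h
    · simp [ha1] at h
    · exact absurd h h2
    · exact absurd (β.injective h) h1
    · exact h
  rcases sq_one_cases comm h4 ha hb ha1 hb1 (Ne.symm h1) hd with h | h | h | h
  · simp [ha1] at h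
  · exact h
  · exact absurd (β.injective h) h2
  · rw [← hcc] at h
    exact absurd (β.injective (β.injective h)) h1

include comm h4 in
/-- With one involution fixed all are. -/
theorem fix_sq_of_fix {β : MulAut A} {n : ℕ} (hn : Odd n) (hβ : β ^ n = 1) {a : A} (ha : a ^ 2 = 1)
    (ha1 : a ≠ 1) (hfix : β a = a) {c : A} (hc : c ^ 2 = 1) : β c = c := by
  by_cases hc1 : c = 1
  · rw [hc1, map_one]
  by_cases hca : a = c
  · rw [← hca, hfix]
  have h1 : β c ^ 2 = 1 := by rw [← map_pow, hc, map_one]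
  rcases sq_one_cases comm h4 ha hc ha1 hc1 hca h1 with h | h | h | h
  · simp [hc1] at h
  · exact absurd (β.injective (h.trans hfix.symm)).symm hca
  · exact h
  · refine fix_of_sq_fix hn hβ ?_
    rw [h, map_mul, hfix, h, ← mul_assoc, ← pow_two, ha, one_mul]

/-- A non-identity element of a 2-group has an involution among its powers. -/
theorem exists_invol {w : A} (h2 : ∃ e : ℕ, orderOf w = 2 ^ e) (hw : w ≠ 1) :
    ∃ k : ℕ, (w ^ k) ^ 2 = 1 ∧ w ^ k ≠ 1 := by
  obtain ⟨e, he⟩ := h2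
  obtain ⟨e', rfl⟩ : ∃ e', e = e' + 1 := ⟨e - 1, by
    rcases Nat.eq_zero_or_pos e with rfl | h
    · exact absurd (orderOf_eq_one_iff.1 (by rw [he, pow_zero])) hw
    · omega⟩
  refine ⟨2 ^ e', by rw [← pow_mul, ← pow_succ, ← he, pow_orderOf_eq_one], fun h => ?_⟩
  have := orderOf_dvd_of_pow_eq_one h
  rw [he] at this
  have := (Nat.pow_dvd_pow_iff_le_right (by norm_num : 1 < 2)).1 this
  omega

end Algebra

theorem card_sq_one_zmod {m : ℕ} (hm : 1 ≤ m) :
    Nat.card {a : ZMod (2 ^ m) // 2 • a = 0} = 2 := by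
  obtain ⟨e, rfl⟩ : ∃ e, m = e + 1 := ⟨m - 1, by omega⟩
  haveI : NeZero (2 ^ (e + 1)) := ⟨by positivity⟩
  rw [Nat.card_eq_two_iff]
  refine ⟨⟨0, smul_zero 2⟩, ⟨((2 ^ e : ℕ) : ZMod (2 ^ (e + 1))), ?_⟩, ?_, ?_⟩
  · rw [nsmul_eq_mul, ← Nat.cast_mul, ← pow_succ', ZMod.natCast_self]
  · intro h
    have := congrArg (fun a => ZMod.val (Subtype.val a)) h
    rw [ZMod.val_zero, ZMod.val_natCast_of_lt (Nat.pow_lt_pow_succ (by norm_num))] at this
    exact absurd this.symm (Nat.two_pow_pos e).ne'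
  · refine Set.eq_univ_of_forall fun ⟨a, ha⟩ => ?_
    rw [nsmul_eq_mul, ← ZMod.natCast_zmod_val a, ← Nat.cast_mul,
      ZMod.natCast_eq_zero_iff] at ha
    obtain ⟨c, hc⟩ := (Nat.mul_dvd_mul_iff_left (by norm_num)).1
      ((dvd_of_eq (pow_succ' 2 e).symm).trans ha)
    have hlt := ZMod.val_lt a
    rw [hc, pow_succ] at hlt
    have hc2 : c < 2 := Nat.lt_of_mul_lt_mul_left hlt
    interval_cases c
    · left
      exact Subtype.ext ((ZMod.natCast_zmod_val a).symm.trans (by rw [hc, mul_zero, Nat.cast_zero]))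
    · right
      exact Subtype.ext ((ZMod.natCast_zmod_val a).symm.trans (by rw [hc, mul_one]))

variable {G : Type u} [Group G] [Fintype G] {M : Ideal AlgInt} [M.IsPrime]
  [CharP (Res M) 2] [IsAlgClosed (Res M)]

/-- A 2-block with a maximal pair on a group `C_q × C_q`, `q = 2 ^ m ≥ 4`. -/
structure Setup (M : Ideal AlgInt) [M.IsPrime] [CharP (Res M) 2] (B : Set (IrrCharacter G))
    (D : Subgroup G) (eP : GA (Res M) G) (m : ℕ) : Prop where
  modular : Cfsg.IsPModular 2 M
  block : Cfsg.IsPBlock M B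
  max : IsMaxPair 2 ⊤ (gblk M B) D eP
  two_le : 2 ≤ m
  iso : Nonempty (D ≃* Multiplicative (ZMod (2 ^ m) × ZMod (2 ^ m)))

namespace Setup

variable {B : Set (IrrCharacter G)} {D : Subgroup G} {eP : GA (Res M) G} {m : ℕ}
  (S : Setup M B D eP m)

include S

theorem comm (a b : D) : a * b = b * a := by
  obtain ⟨e⟩ := S.iso
  exact e.injective (by rw [map_mul, map_mul, mul_comm])

theorem hab : D ≤ Subgroup.centralizer (D : Set G) :=
  le_centralizer_of_comm fun x hx y hy => congrArg Subtype.val (S.comm ⟨x, hx⟩ ⟨y, hy⟩)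

theorem card : Nat.card D = 4 ^ m := by
  obtain ⟨e⟩ := S.iso
  rw [Nat.card_congr e.toEquiv, Nat.card_congr Multiplicative.toAdd, Nat.card_prod, Nat.card_zmod,
    ← mul_pow]
  norm_num

theorem pElem {w : G} (hw : w ∈ D) : ∃ k, orderOf w = 2 ^ k := by
  obtain ⟨k, hk⟩ := (IsPGroup.iff_orderOf.1 S.max.1.1.2.1) ⟨w, hw⟩
  exact ⟨k, by rw [← hk, Subgroup.orderOf_mk]⟩

theorem isTwoGroup (a : D) : ∃ e : ℕ, a ^ 2 ^ e = 1 := S.max.1.1.2.1 a

theorem card_invol : Nat.card {a : D // a ^ 2 = 1} = 4 := by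
  obtain ⟨e⟩ := S.iso
  have hm : 1 ≤ m := le_trans (by norm_num) S.two_le
  rw [← show Nat.card ({a : ZMod (2 ^ m) // 2 • a = 0} × {a : ZMod (2 ^ m) // 2 • a = 0}) = 4 by
    rw [Nat.card_prod, card_sq_one_zmod hm]]
  refine Nat.card_congr ((e.toEquiv.trans Multiplicative.toAdd).subtypeEquiv
    (q := fun v : ZMod (2 ^ m) × ZMod (2 ^ m) => 2 • v.1 = 0 ∧ 2 • v.2 = 0) (fun a => ?_) |>.trans
      (Equiv.subtypeProdEquivProd (p := fun a : ZMod (2 ^ m) => 2 • a = 0)
        (q := fun a : ZMod (2 ^ m) => 2 • a = 0)))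
  rw [← e.injective.eq_iff, map_pow, map_one, ← Multiplicative.toAdd.injective.eq_iff, toAdd_pow,
    toAdd_one, Prod.ext_iff]
  rfl

/-- Conjugation by an element of the stabilizer. -/
theorem exists_conjAut {t : G} (ht : t ∈ stab ⊤ D eP) :
    ∃ β : MulAut D, (∀ a : D, ((β a : D) : G) = t * a * t⁻¹) ∧
      ∃ n : ℕ, Odd n ∧ β ^ n = 1 := by
  obtain ⟨n, hn, hpow⟩ := exists_coprime_pow (isBlock_gblk S.block) S.max S.hab
  refine ⟨Subgroup.normalizerMonoidHom D ⟨t, ht.1.2⟩, fun a => rfl, n,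
    Nat.odd_iff.2 (Nat.two_dvd_ne_zero.1 hn), ?_⟩
  rw [← map_pow, ← MonoidHom.mem_ker, Subgroup.normalizerMonoidHom_ker, Subgroup.mem_subgroupOf,
    SubgroupClass.coe_pow]
  exact hpow t ht

theorem mem_centralizer_of_eq_one {t : G} {β : MulAut D}
    (hβ : ∀ a : D, ((β a : D) : G) = t * a * t⁻¹) (h : β = 1) :
    t ∈ Subgroup.centralizer (D : Set G) :=
  Subgroup.mem_centralizer_iff.2 fun d hd => by
    have := hβ ⟨d, hd⟩
    rw [h, MulAut.one_apply] at this
    exact eq_mul_inv_iff_mul_eq.1 this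

theorem cube {t : G} (ht : t ∈ stab ⊤ D eP) : t ^ 3 ∈ Subgroup.centralizer (D : Set G) := by
  obtain ⟨β, hβ, n, hn, hβn⟩ := S.exists_conjAut ht
  refine S.mem_centralizer_of_eq_one (β := β ^ 3) (fun a => ?_)
    (eq_one_of_fix_sq S.comm S.isTwoGroup hn (by rw [← pow_mul, mul_comm, pow_mul, hβn, one_pow])
      fun c hc => fix_cube S.comm S.card_invol hn hβn hc)
  simp only [pow_succ, pow_zero, one_mul, MulAut.mul_apply, hβ]
  group

/-- The stabilizer acts semiregularly. -/
theorem free {t w : G} (ht : t ∈ stab ⊤ D eP) (hw : w ∈ D) (hw1 : w ≠ 1)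
    (hfix : t * w * t⁻¹ = w) : t ∈ Subgroup.centralizer (D : Set G) := by
  obtain ⟨β, hβ, n, hn, hβn⟩ := S.exists_conjAut ht
  have hfix' : β ⟨w, hw⟩ = ⟨w, hw⟩ := Subtype.ext ((hβ ⟨w, hw⟩).trans hfix)
  obtain ⟨k, hk2, hk1⟩ := exists_invol (w := (⟨w, hw⟩ : D))
    (by simpa [Subgroup.orderOf_mk] using S.pElem hw) (fun h => hw1 (congrArg Subtype.val h))
  exact S.mem_centralizer_of_eq_one hβ (eq_one_of_fix_sq S.comm S.isTwoGroup hn hβn fun c hc =>
    fix_sq_of_fix S.comm S.card_invol hn hβn hk2 hk1 (by rw [map_pow, hfix']) hc)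

/-- A stabilizer outside the centralizer acts as a semiregular group of order three. -/
theorem exists_sigma (hT : ¬ stab ⊤ D eP ≤ Subgroup.centralizer (D : Set G)) :
    ∃ σ : MulAut D, (∀ a, σ (σ (σ a)) = a) ∧ (∀ a, a ≠ 1 → σ a ≠ a) ∧
      (∀ a, σ (σ a) = a → a = 1) ∧
      (∃ t ∈ stab ⊤ D eP, ∀ a : D, ((σ a : D) : G) = t * a * t⁻¹) ∧
      ∀ t ∈ stab ⊤ D eP, ∀ a : D,
        t * a * t⁻¹ = a ∨ t * a * t⁻¹ = σ a ∨ t * a * t⁻¹ = σ (σ a) := by
  obtain ⟨t₀, ht₀, hn₀⟩ := SetLike.not_le_iff_exists.1 hT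
  obtain ⟨β, hβ, n, hn, hβn⟩ := S.exists_conjAut ht₀
  have hne : ∀ a, a ≠ 1 → β a ≠ a := fun a ha h => hn₀ (S.free ht₀ a.2
    (fun e => ha (Subtype.ext e)) ((hβ a).symm.trans (congrArg Subtype.val h)))
  refine ⟨β, fun a => Subtype.ext ?_, hne, fun a h => ?_, ⟨t₀, ht₀, hβ⟩, ?_⟩
  · rw [hβ, hβ, hβ]
    calc _ = t₀ ^ 3 * (a : G) * (t₀ ^ 3)⁻¹ := by
          simp only [pow_succ, pow_zero, one_mul, mul_inv_rev]; group
      _ = a := by rw [← Subgroup.mem_centralizer_iff.1 (S.cube ht₀) a a.2, mul_inv_cancel_right]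
  · by_contra ha
    exact hne a ha (fix_of_sq_fix hn hβn h)
  intro t ht
  obtain ⟨b, hb, hb1, -⟩ := exists_other (a := (1 : D)) S.card_invol
  obtain ⟨γ, hγ, -⟩ := S.exists_conjAut ht
  have key : ∀ k : ℕ, γ b = (β ^ k) b → ∀ a : D, t * a * t⁻¹ = ((β ^ k) a : D) := by
    intro k hk
    have hpk : ∀ a : D, (((β ^ k) a : D) : G) = t₀ ^ k * a * (t₀ ^ k)⁻¹ := by
      intro a
      clear hk
      induction k with
      | zero => simp
      | succ k ih => rw [pow_succ', pow_succ', MulAut.mul_apply, hβ, ih]; group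
    have hu : (t₀ ^ k)⁻¹ * t ∈ Subgroup.centralizer (D : Set G) := by
      refine S.free (mul_mem (inv_mem (pow_mem ht₀ k)) ht) b.2 (fun e => hb1 (Subtype.ext e)) ?_
      have h := congrArg Subtype.val hk
      rw [hγ, hpk] at h
      rw [show (t₀ ^ k)⁻¹ * t * (b : G) * ((t₀ ^ k)⁻¹ * t)⁻¹ =
        (t₀ ^ k)⁻¹ * (t * b * t⁻¹) * t₀ ^ k by group, h]
      group
    intro a
    rw [hpk]
    calc t * (a : G) * t⁻¹ = t₀ ^ k * (((t₀ ^ k)⁻¹ * t) * a * ((t₀ ^ k)⁻¹ * t)⁻¹) * (t₀ ^ k)⁻¹ := by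
          group
      _ = _ := by rw [← Subgroup.mem_centralizer_iff.1 hu a a.2, mul_inv_cancel_right]
  have hb2 : β b ^ 2 = 1 := by rw [← map_pow, hb, map_one]
  have hγ2 : γ b ^ 2 = 1 := by rw [← map_pow, hb, map_one]
  intro a
  rcases sq_one_cases S.comm S.card_invol hb hb2 hb1 (by simpa using hb1) (Ne.symm (hne b hb1))
    hγ2 with h | h | h | h
  · simp [hb1] at h
  · left
    simpa using key 0 (by simpa using h) a
  · right; left
    simpa using key 1 (by simpa using h) a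
  · right; right
    have h2 : β (β b) = b * β b := by
      rcases sq_one_cases S.comm S.card_invol hb hb2 hb1 (by simpa using hb1) (Ne.symm (hne b hb1))
        (show β (β b) ^ 2 = 1 by rw [← map_pow, hb2, map_one]) with h | h | h | h
      · simp [hb1] at h
      · exact absurd (fix_of_sq_fix hn hβn h) (hne b hb1)
      · exact absurd (β.injective h) (hne b hb1)
      · exact h
    simpa [pow_two] using key 2 (by rw [pow_two, MulAut.mul_apply, h2, h]) a

end Setup

end CfsgLib.HomocyclicBlock
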