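import Cfsg.Agent.HomocyclicBlock.Local
import Cfsg.Agent.InertialQuotient.MasterSum
import Cfsg.Agent.BlocksCharsC.SubsectionUnit
import Cfsg.Agent.BlocksCharsC.SubsectionMajor

/-!
# The columns of the block at the non-identity elements of its defect group

`col S hj w χ` is the value of `χ` in the subsection at `w`: the columns are invariant under the
stabilizer, orthogonal between its orbits, of squared length `|D|`, and never zero on the block.
-/

set_option autoImplicit false
set_option linter.unusedSectionVars false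
set_option linter.style.haveILetI false
set_option maxHeartbeats 800000

namespace CfsgLib.HomocyclicBlock

open Cfsg CfsgLib.BlockPairs CfsgLib.Star CfsgLib.InertialQuotient
open CfsgLib.Blocks (Res isBlockUnion_of_isPBlock)
open CfsgLib.BlockPairing (regInner)
open scoped ComplexConjugate

universe u

variable {G : Type u} [Group G] [Fintype G] [∀ H : Subgroup G, Fintype H] {M : Ideal AlgInt}
  [M.IsPrime] [CharP (Res M) 2] [IsAlgClosed (Res M)]
  {B : Set (IrrCharacter G)} {D : Subgroup G} {eP : GA (Res M) G} {m : ℕ}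

/-- The element `x` inside the centralizer of the group it generates. -/
def selfZ (x : G) : ↥(Subgroup.centralizer ((Subgroup.zpowers x : Subgroup G) : Set G)) :=
  ⟨x, Subgroup.mem_centralizer_iff.2 fun _ ⟨i, hi⟩ => hi ▸ ((Commute.refl x).zpow_left i).eq⟩

theorem centralizer_zpowers_eq (x : G) :
    Subgroup.centralizer ((Subgroup.zpowers x : Subgroup G) : Set G) =
      Subgroup.centralizer ({x} : Set G) := by rw [← cent_top, cent_zpowers]

theorem centMap_subtype (x : G) :
    CentMap x (Subgroup.centralizer ((Subgroup.zpowers x : Subgroup G) : Set G)).subtype (selfZ x) :=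
  ⟨Subgroup.subtype_injective _, by rw [Subgroup.range_subtype, centralizer_zpowers_eq], rfl⟩

/-- The regular inner product of the translate by `x`. -/
noncomputable def regTr (x : G) (χ : G → ℂ)
    (ξ : ↥(Subgroup.centralizer ((Subgroup.zpowers x : Subgroup G) : Set G)) → ℂ) : ℂ :=
  regInner 2 (fun c : ↥(Subgroup.centralizer ((Subgroup.zpowers x : Subgroup G) : Set G)) =>
    χ ((Subgroup.centralizer ((Subgroup.zpowers x : Subgroup G) : Set G)).subtype (selfZ x * c))) ξ

/-- Orthogonality of the translates by one element. -/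
theorem sum_regTr (hM : Cfsg.IsPModular 2 M) {x : G} (hx : ∃ k, orderOf x = 2 ^ k)
    (ξ η : IrrCharacter ↥(Subgroup.centralizer ((Subgroup.zpowers x : Subgroup G) : Set G))) :
    ∑ χ : IrrCharacter G, regTr x (χ : G → ℂ) ξ * conj (regTr x (χ : G → ℂ) η) =
      regInner 2 (η : ↥(Subgroup.centralizer ((Subgroup.zpowers x : Subgroup G) : Set G)) → ℂ) ξ := by
  let e := MulEquiv.subgroupCongr (centralizer_zpowers_eq x)
  have hsum : ∀ F : ↥(Subgroup.centralizer ((Subgroup.zpowers x : Subgroup G) : Set G)) → ℂ,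
      ∑ c, F c = ∑ c, F (e.symm c) := fun F =>
    (Fintype.sum_equiv e.symm.toEquiv _ _ fun c => rfl).symm
  have hreg : ∀ (f : ↥(Subgroup.centralizer ((Subgroup.zpowers x : Subgroup G) : Set G)) → ℂ)
      (θ : IrrCharacter ↥(Subgroup.centralizer ((Subgroup.zpowers x : Subgroup G) : Set G))),
      regInner 2 f (θ).1 =
        regInner 2 (fun c => f (e.symm c)) (irrComp e.symm θ).1 := by
    intro f θ
    rw [regInner, regInner, Nat.card_congr e.toEquiv, hsum]
    refine congrArg _ (Finset.sum_congr rfl fun c _ => ?_)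
    rw [e.symm.orderOf_eq, irrComp_apply]
  have htr : ∀ (χ : G → ℂ)
      (θ : IrrCharacter ↥(Subgroup.centralizer ((Subgroup.zpowers x : Subgroup G) : Set G))),
      regTr x χ θ = BlocksCharsC.secReg 2 x χ (irrComp e.symm θ) := fun χ θ => by
    rw [regTr, hreg]
    rfl
  simp only [htr]
  rw [BlocksCharsC.sum_secReg_mul_conj hM hx, hreg (η).1 ξ]
  rfl

/-- Translates by elements that are not conjugate are orthogonal. -/
theorem sum_regTr_eq_zero {x y : G} (hx : ∃ k, orderOf x = 2 ^ k) (hy : ∃ k, orderOf y = 2 ^ k)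
    (hne : ∀ g, g * x * g⁻¹ ≠ y)
    (ξ : ↥(Subgroup.centralizer ((Subgroup.zpowers x : Subgroup G) : Set G)) → ℂ)
    (η : ↥(Subgroup.centralizer ((Subgroup.zpowers y : Subgroup G) : Set G)) → ℂ) :
    ∑ χ : IrrCharacter G, regTr x (χ : G → ℂ) ξ * conj (regTr y (χ : G → ℂ) η) = 0 := by
  classical
  simp only [regTr, regInner, map_mul, map_inv₀, map_natCast, map_sum, Finset.mul_sum,
    Finset.sum_mul]
  rw [Finset.sum_comm]
  refine Finset.sum_eq_zero fun d _ => ?_
  rw [Finset.sum_comm]
  refine Finset.sum_eq_zero fun c _ => ?_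
  by_cases hc : 2 ∣ orderOf c
  · simp [hc]
  by_cases hd : 2 ∣ orderOf d
  · simp [hd]
  simp only [hc, hd, if_false, map_mul, Complex.conj_conj]
  have hcx : Commute x (c : G) := Subgroup.mem_centralizer_iff.1 c.2 x (Subgroup.mem_zpowers x)
  have hdy : Commute y (d : G) := Subgroup.mem_centralizer_iff.1 d.2 y (Subgroup.mem_zpowers y)
  have h0 : ∑ χ : IrrCharacter G, (χ : G → ℂ) (x * (c : G)) * conj ((χ : G → ℂ) (y * (d : G))) = 0 := by
    refine Characters.sum_irr_mul_conj_of_not_isConj fun hcj => ?_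
    obtain ⟨g, hg⟩ := isConj_iff.1 hcj
    have h1 := CfsgLib.Blocks.isPPart_conj
      (CfsgLib.Blocks.isPPart_of_mul hcx hx (by rwa [Subgroup.orderOf_coe])) g
    rw [hg] at h1
    exact hne g (CfsgLib.Blocks.isPPart_unique Nat.prime_two h1
      (CfsgLib.Blocks.isPPart_of_mul hdy hy (by rwa [Subgroup.orderOf_coe])))
  let Kx := Subgroup.centralizer ((Subgroup.zpowers x : Subgroup G) : Set G)
  let Ky := Subgroup.centralizer ((Subgroup.zpowers y : Subgroup G) : Set G)
  calc _ = (Nat.card Kx : ℂ)⁻¹ * (Nat.card Ky : ℂ)⁻¹ * conj (ξ c) * η d *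
        ∑ χ : IrrCharacter G, (χ : G → ℂ) (x * (c : G)) * conj ((χ : G → ℂ) (y * (d : G))) := by
        rw [Finset.mul_sum]
        refine Finset.sum_congr rfl fun χ _ => ?_
        simp only [Subgroup.coe_subtype, Subgroup.coe_mul, selfZ, Kx, Ky]
        ring
    _ = 0 := by rw [h0, mul_zero]

/-- The translates are orthogonal to the degrees. -/
theorem sum_regTr_degree {x : G} (hx : ∃ k, orderOf x = 2 ^ k) (hx1 : x ≠ 1)
    (ξ : ↥(Subgroup.centralizer ((Subgroup.zpowers x : Subgroup G) : Set G)) → ℂ) :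
    ∑ χ : IrrCharacter G, regTr x (χ : G → ℂ) ξ * (χ : G → ℂ) 1 = 0 := by
  classical
  simp only [regTr, regInner, Finset.mul_sum, Finset.sum_mul]
  rw [Finset.sum_comm]
  refine Finset.sum_eq_zero fun c _ => ?_
  by_cases hc : 2 ∣ orderOf c
  · simp [hc]
  have hcx : Commute x (c : G) := Subgroup.mem_centralizer_iff.1 c.2 x (Subgroup.mem_zpowers x)
  have h0 : ∑ χ : IrrCharacter G, (χ : G → ℂ) (x * (c : G)) * conj ((χ : G → ℂ) 1) = 0 := by
    refine Characters.sum_irr_mul_conj_of_not_isConj fun hcj => hx1 ?_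
    obtain ⟨g, hg⟩ := isConj_iff.1 hcj
    have h1 : x * (c : G) = 1 := by
      rwa [mul_inv_eq_one, mul_eq_left] at hg
    exact CfsgLib.Blocks.isPPart_unique Nat.prime_two
      (CfsgLib.Blocks.isPPart_of_mul hcx hx (by rwa [Subgroup.orderOf_coe]))
      (by rw [h1]; exact ⟨1, by rw [one_mul], Commute.one_left _, ⟨0, by simp⟩, by simp⟩)
  simp only [hc, if_false, Subgroup.coe_subtype, Subgroup.coe_mul, selfZ]
  have hd : ∀ χ : IrrCharacter G, conj ((χ : G → ℂ) 1) = (χ : G → ℂ) 1 := fun χ => by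
    obtain ⟨n, -, hn⟩ := Characters.exists_degree_pos χ.2
    rw [hn, Complex.conj_natCast]
  simp only [hd] at h0
  calc _ = (Nat.card ↥(Subgroup.centralizer ((Subgroup.zpowers x : Subgroup G) : Set G)) : ℂ)⁻¹ *
        conj (ξ c) * ∑ χ : IrrCharacter G, (χ : G → ℂ) (x * (c : G)) * (χ : G → ℂ) 1 := by
        rw [Finset.mul_sum]
        exact Finset.sum_congr rfl fun χ _ => by ring
    _ = 0 := by rw [h0, mul_zero]

/-- In a block with one Brauer character the column value is a regular inner product. -/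
theorem colv_eq_regTr {x : G}
    {f : Set (IrrCharacter ↥(Subgroup.centralizer ((Subgroup.zpowers x : Subgroup G) : Set G)))}
    {ψ : IrrCharacter ↥(Subgroup.centralizer ((Subgroup.zpowers x : Subgroup G) : Set G))}
    (hM : Cfsg.IsPModular 2 M) (hf : OneBrauer 2 M f ψ) {χ : G → ℂ}
    (hχ : Cfsg.IsClassFunction G χ) :
    colv (Subgroup.centralizer ((Subgroup.zpowers x : Subgroup G) : Set G)).subtype (selfZ x) f χ =
      ((2 ^ Cfsg.blockDefect 2 f : ℕ) : ℂ) * regTr x χ ψ := by
  classical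
  have hcl := (centMap_subtype x).translate_isClassFunction hχ
  have h1 : regTr x χ ψ = colv (Subgroup.centralizer ((Subgroup.zpowers x : Subgroup G) : Set G)).subtype
      (selfZ x) f χ * regInner 2 (ψ).1 ψ := by
    have hexp := Characters.classFunction_expansion hcl
    rw [regTr, BlocksCharsC.regInner_congr_left (φ' := fun c => ∑ η : IrrCharacter _,
      Cfsg.classInner (fun h => χ ((Subgroup.centralizer
        ((Subgroup.zpowers x : Subgroup G) : Set G)).subtype (selfZ x * h))) (η).1 * (η).1 c)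
      _ (fun c _ => by
        have := congrFun hexp c
        simpa [Finset.sum_apply] using this), MajorSubsection.regInner_sum_left, colv, Finset.sum_mul]
    rw [← Finset.sum_subset (Finset.subset_univ f.toFinite.toFinset) fun η _ hη => ?_]
    · refine Finset.sum_congr rfl fun η hη => ?_
      rw [BlocksCharsC.regInner_congr_left _ (hf.agree η ((Set.Finite.mem_toFinset _).1 hη))]
    · rw [MajorSubsection.regInner_eq_zero_of_not_mem hM hf.block
        (fun h => hη ((Set.Finite.mem_toFinset _).2 h)) hf.mem, mul_zero]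
  calc _ = colv (Subgroup.centralizer ((Subgroup.zpowers x : Subgroup G) : Set G)).subtype
        (selfZ x) f χ * (((2 ^ Cfsg.blockDefect 2 f : ℕ) : ℂ) * regInner 2 (ψ).1 ψ) := by
        rw [hf.self, mul_one]
    _ = _ := by rw [h1]; ring

namespace Setup

variable (S : Setup M B D eP m) {j : GA (Res M) G} (hj : Lead D eP j)

include S in
theorem zpowers_le (w : D) : Subgroup.zpowers (w : G) ≤ D := Subgroup.zpowers_le.2 w.2

include S in
theorem zpowers_ne_bot {w : D} (hw : w ≠ 1) : Subgroup.zpowers (w : G) ≠ ⊥ := fun h =>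
  hw (Subtype.ext (Subgroup.zpowers_eq_bot.1 h))

/-- The data at `⟨w⟩`. -/
noncomputable def locAt {w : D} (hw : w ≠ 1) : Loc D eP j (Subgroup.zpowers (w : G)) :=
  S.loc hj (S.zpowers_le w) (S.zpowers_ne_bot hw)

/-- The column at `w`. -/
noncomputable def col (w : D) (χ : G → ℂ) : ℂ :=
  open Classical in if hw : w ≠ 1 then
    colv (Subgroup.centralizer ((Subgroup.zpowers (w : G) : Subgroup G) : Set G)).subtype
      (selfZ (w : G)) (S.locAt hj hw).f χ
  else 0

variable {w : D} (hw : w ≠ 1)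

include hw in
theorem col_eq (χ : G → ℂ) : S.col hj w χ =
    colv (Subgroup.centralizer ((Subgroup.zpowers (w : G) : Subgroup G) : Set G)).subtype
      (selfZ (w : G)) (S.locAt hj hw).f χ := dif_pos hw

theorem col_mem {ζ : ℂ} (hζ : IsPrimitiveRoot ζ (4 ^ m)) (w : D) {χ : G → ℂ}
    (hχ : Cfsg.IsCharacter G χ) : S.col hj w χ ∈ BlocksCharsC.cyRing ζ := by
  by_cases hw : w ≠ 1
  · haveI : NeZero (4 ^ m) := ⟨by positivity⟩
    rw [S.col_eq hj hw]
    refine (centMap_subtype (w : G)).colv_mem hζ ?_ _ hχ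
    rw [← S.card]
    exact Subgroup.orderOf_dvd_natCard D w.2
  · rw [col, dif_neg hw]
    exact zero_mem _

include hw in
theorem col_eq_regTr {χ : G → ℂ} (hχ : Cfsg.IsClassFunction G χ) :
    S.col hj w χ = (Nat.card D : ℂ) * regTr (w : G) χ (S.locAt hj hw).ψ.1 := by
  rw [S.col_eq hj hw, colv_eq_regTr S.modular (S.locAt hj hw).one hχ, (S.locAt hj hw).defect]

/-- The trace of the idempotent at a non-identity element of `D`. -/
noncomputable def trD (χ : G → ℂ) (w : D) : ℂ := T M χ (w : G) j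

include S hj in
theorem isGen_trD {χ : G → ℂ} (hχ : Cfsg.IsCharacter G χ) :
    Cfsg.IsGeneralizedCharacter D (trD (M := M) (D := D) (j := j) χ) := by
  obtain ⟨E, hE, hEz⟩ := exists_lift (M := M) j hj.prim.2.1
  have h := isGen_trace (M := M) hχ (E := D) E hE fun y hy => (hEz y (hj.prim.1.2 y hy)).1
  convert! h using 1
  funext x
  exact T_eq (Characters.isClassFunction_of_isCharacter hχ) hE (hEz _ (hj.prim.1.2 _ x.2))

include hw in
theorem trD_eq {χ : G → ℂ} (hχ : Cfsg.IsClassFunction G χ) :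
    trD (M := M) (D := D) (j := j) χ w = S.col hj w χ * S.mu hj (Subgroup.zpowers (w : G)) := by
  rw [S.mu_eq hj (S.zpowers_le w) (S.zpowers_ne_bot hw), ← Loc.mu_spec, S.col_eq hj hw]
  exact (centMap_subtype (w : G)).T_factor S.modular (S.pElem w.2) (S.locAt hj hw).one hχ
    (S.locAt hj hw).idem_a (S.locAt hj hw).mem_a hj.prim.2.1 (hj.prim.1.2 _ w.2)
    (S.locAt hj hw).emb_a.symm

include hw in
theorem T_below {χ : G → ℂ} (hχ : Cfsg.IsClassFunction G χ)
    {s : ↥(Subgroup.centralizer ((Subgroup.zpowers (w : G) : Subgroup G) : Set G))}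
    (hs : ¬ 2 ∣ orderOf s) :
    T M χ ((w : G) * (s : G)) (below 2 D eP (Subgroup.zpowers (w : G))) =
      S.col hj w χ * (S.locAt hj hw).ψ.1 s := by
  rw [S.col_eq hj hw, ← (S.locAt hj hw).emb_f]
  exact (centMap_subtype (w : G)).T_block S.modular (S.locAt hj hw).one hχ hs

include hw in
theorem T_below_one {χ : G → ℂ} (hχ : Cfsg.IsClassFunction G χ) :
    T M χ (w : G) (below 2 D eP (Subgroup.zpowers (w : G))) =
      S.col hj w χ * (S.locAt hj hw).ψ.1 1 := by
  have h := S.T_below hj hw hχ (s := 1) (by simp)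
  rwa [OneMemClass.coe_one, mul_one] at h

/-- The columns vanish outside the block. -/
theorem col_eq_zero (w : D) {χ : IrrCharacter G} (hχ : χ ∉ B) : S.col hj w (χ : G → ℂ) = 0 := by
  by_cases hw : w ≠ 1
  swap
  · exact dif_neg hw
  have hcl := Characters.isClassFunction_of_isIrr χ.2
  have hB' := CfsgLib.Blocks.isPBlock_blockOf (M := M) χ
  have hmem := CfsgLib.Blocks.mem_blockOf_self (M := M) χ
  have hne : gblk M (Cfsg.blockOf M (χ : G → ℂ)) ≠ gblk M B := fun h =>
    hχ (gblk_inj hB' S.block h ▸ hmem)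
  have h0 : gblk M (Cfsg.blockOf M (χ : G → ℂ)) * gblk M B = 0 :=
    ((isBlock_gblk (M := M) hB').eq_or_mul_eq_zero (isBlock_gblk S.block)).resolve_left hne
  have hQ := S.zpowers_le w
  have hhas := mem_blockHas_of_le (isBlock_gblk S.block) S.max (le_below' S.max hQ)
  have hbl := isBlock_below S.max hQ
  have hp : pPart 2 (w : G) = (w : G) := pPart_of_pElement (p := 2) (S.pElem w.2)
  have hP := isPGroup_zpowers (p := 2) (S.pElem w.2)
  have hT : T M (χ : G → ℂ) (w : G) (below 2 D eP (Subgroup.zpowers (w : G))) = 0 := by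
    refine T_eq_zero_of_not_under S.modular hB' hmem (by
      rw [hp, cent_top]; exact mem_blocks.2 hbl) ?_
    rw [hp, ← hhas.2.2, ← mul_assoc,
      ← br_mul hP ((isBlock_gblk (M := M) hB').fixed.mono le_top)
        ((isBlock_gblk (M := M) S.block).fixed.mono le_top), h0, br_zero, zero_mul]
  rw [S.T_below_one hj hw hcl] at hT
  exact (mul_eq_zero.1 hT).resolve_right (Characters.irr_one_ne_zero (S.locAt hj hw).ψ.2)

open Classical in
/-- The columns have squared length the order of `D`. -/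
theorem sum_col_self {w : D} (hw : w ≠ 1) :
    ∑ χ : IrrCharacter G, S.col hj w (χ : G → ℂ) * conj (S.col hj w (χ : G → ℂ)) =
      (Nat.card D : ℂ) := by
  set L := S.locAt hj hw
  have hq : (Nat.card D : ℂ) = ((2 ^ Cfsg.blockDefect 2 L.f : ℕ) : ℂ) := by rw [L.defect]
  rw [Finset.sum_congr rfl (g := fun χ : IrrCharacter G => (Nat.card D : ℂ) * ((Nat.card D : ℂ) *
      (regTr (w : G) (χ : G → ℂ) L.ψ.1 * conj (regTr (w : G) (χ : G → ℂ) L.ψ.1)))) fun χ _ => by
    rw [S.col_eq_regTr hj hw (Characters.isClassFunction_of_isIrr χ.2), map_mul,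
      Complex.conj_natCast]
    ring, ← Finset.mul_sum, ← Finset.mul_sum, sum_regTr S.modular (S.pElem w.2)]
  conv_rhs => rw [← mul_one (Nat.card D : ℂ), ← L.one.self, ← hq]

open Classical in
/-- The columns are orthogonal to the degrees. -/
theorem sum_col_degree (w : D) :
    ∑ χ : IrrCharacter G, S.col hj w (χ : G → ℂ) * (χ : G → ℂ) 1 = 0 := by
  by_cases hw : w ≠ 1
  swap
  · exact Finset.sum_eq_zero fun χ _ => by rw [col, dif_neg hw, zero_mul]
  set L := S.locAt hj hw
  rw [Finset.sum_congr rfl (g := fun χ : IrrCharacter G => (Nat.card D : ℂ) *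
      (regTr (w : G) (χ : G → ℂ) L.ψ.1 * (χ : G → ℂ) 1)) fun χ _ => by
    rw [S.col_eq_regTr hj hw (Characters.isClassFunction_of_isIrr χ.2), mul_assoc],
    ← Finset.mul_sum, sum_regTr_degree (S.pElem w.2) (fun h => hw (Subtype.ext h)), mul_zero]

open Classical in
/-- The columns at elements in different orbits are orthogonal. -/
theorem sum_col_orth {w v : D} (hw : w ≠ 1) (hv : v ≠ 1)
    (h : ∀ t ∈ stab ⊤ D eP, t * (w : G) * t⁻¹ ≠ v) :
    ∑ χ : IrrCharacter G, S.col hj w (χ : G → ℂ) * conj (S.col hj v (χ : G → ℂ)) = 0 := by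
  set L := S.locAt hj hw
  set L' := S.locAt hj hv
  by_cases hc : ∃ g : G, g * (w : G) * g⁻¹ = v
  swap
  · push Not at hc
    rw [Finset.sum_congr rfl (g := fun χ : IrrCharacter G => (Nat.card D : ℂ) * ((Nat.card D : ℂ) *
        (regTr (w : G) (χ : G → ℂ) L.ψ.1 * conj (regTr (v : G) (χ : G → ℂ) L'.ψ.1)))) fun χ _ => by
      rw [S.col_eq_regTr hj hw (Characters.isClassFunction_of_isIrr χ.2),
        S.col_eq_regTr hj hv (Characters.isClassFunction_of_isIrr χ.2), map_mul,
        Complex.conj_natCast]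
      ring, ← Finset.mul_sum, ← Finset.mul_sum, sum_regTr_eq_zero (S.pElem w.2) (S.pElem v.2) hc,
      mul_zero, mul_zero]
  obtain ⟨g, hg⟩ := hc
  set K := Subgroup.centralizer ((Subgroup.zpowers (w : G) : Subgroup G) : Set G) with hK
  have hQv := S.zpowers_le v
  have hblv := isBlock_below S.max hQv
  set e := conjA (Res M) g⁻¹ (below 2 D eP (Subgroup.zpowers (v : G))) with he
  have hcj : cj g⁻¹ (Subgroup.zpowers (v : G)) = Subgroup.zpowers (w : G) := by
    rw [cj_zpowers, ← hg]; congr 1; group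
  have heb : IsBlock K e := by
    have := hblv.conjA g⁻¹
    rwa [cj_centralizer, hcj] at this
  obtain ⟨f, hf, hfe⟩ := exists_eq_sblk (M := M) heb
  have hne : f ≠ L.f := by
    intro hfL
    have hle := le_below' S.max (S.zpowers_le w)
    rw [← L.emb_f, ← hfL, emb_gblk, ← hfe] at hle
    have hmor : Mor 2 D eP (Subgroup.zpowers (w : G)) g := ⟨e, hle, by
      rw [he, conjA_inv', cj_zpowers, hg]
      exact le_below' S.max hQv⟩
    obtain ⟨t, ht, htw⟩ := exists_stab_of_mor S.block S.max S.hab hmor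
    exact h t ht (htw.trans hg)
  set L0 := (L'.ψ).1 1 with hL0
  have hψ1 : L0 ≠ 0 := Characters.irr_one_ne_zero L'.ψ.2
  have hcol : ∀ χ : IrrCharacter G, S.col hj v (χ : G → ℂ) * L0 =
      ∑ ξ ∈ f.toFinite.toFinset, regTr (w : G) (χ : G → ℂ) ξ * (ξ : K → ℂ) 1 := by
    intro χ
    have hcl := Characters.isClassFunction_of_isIrr χ.2
    have hfix : conjA (Res M) (v : G) (below 2 D eP (Subgroup.zpowers (v : G))) =
        below 2 D eP (Subgroup.zpowers (v : G)) :=
      hblv.fixed _ (le_centralizer_of_le S.hab hQv v.2)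
    have h2 := T_conj (M := M) hcl (t := g⁻¹) hblv.idem hfix
    rw [S.T_below_one hj hv hcl, show g⁻¹ * (v : G) * g⁻¹⁻¹ = (w : G) by rw [← hg]; group, ← he,
      hfe, ← emb_gblk] at h2
    rw [← h2]
    -- the trace of another block at `(w : G)`
    have hcm := centMap_subtype (w : G)
    have hu := isBlockUnion_of_isPBlock hf
    set F : MonoidAlgebra (CfsgLib.Blocks.localRing M) K :=
      (CfsgLib.Blocks.setIdemO M f (CfsgLib.Blocks.memLocalRing_blockCoeff hu) :
        MonoidAlgebra (CfsgLib.Blocks.localRing M) K) with hF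
    have hFc : ∀ a, Commute a F := fun a =>
      Subring.mem_center_iff.1 (CfsgLib.Blocks.setIdemO M f
        (CfsgLib.Blocks.memLocalRing_blockCoeff hu)).2 a
    have hFF : F * F = F := by
      rw [hF, ← Subring.coe_mul]
      congr 1
      exact CfsgLib.Blocks.ctr_ext_omegaO fun φ => by
        rw [map_mul, CfsgLib.Blocks.omegaO_setIdemO]; split_ifs <;> simp
    have habove : Above M (w : G) (MonoidAlgebra.mapDomainRingHom (CfsgLib.Blocks.localRing M) K.subtype F)
        (emb K.subtype (gblk M f)) := by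
      refine ⟨?_, by rw [CentMap.rho_map K.subtype_injective, hF, gblk_eq hu]⟩
      have := (hFc (MonoidAlgebra.single (selfZ (w : G)) 1)).map
        (MonoidAlgebra.mapDomainRingHom (CfsgLib.Blocks.localRing M) K.subtype)
      rwa [MonoidAlgebra.mapDomainRingHom_apply, MonoidAlgebra.mapDomainRingHom_apply,
        MonoidAlgebra.mapDomain_single, hcm.map_z] at this
    rw [T_eq hcl (by rw [← map_mul, hFF]) habove, hcm.tau_map,
      CentMap.tau_sum (hcm.translate_isClassFunction hcl)]
    have hval : ∀ ξ : IrrCharacter K, tau M (ξ : K → ℂ) F =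
        if ξ ∈ f then (ξ : K → ℂ) 1 else 0 := fun ξ => by
      rw [← mul_one F, hF, tau_mul_setIdemO ξ hu, tau_apply, Finset.sum_eq_single (1 : K)
        (fun b _ hb => by simp [MonoidAlgebra.one_def, Ne.symm hb]) (by simp)]
      simp [MonoidAlgebra.one_def]
    simp only [hval, mul_ite, mul_zero]
    rw [← BlockPairing.sum_union_regInner_mul (p := 2) S.modular hu
      (hcm.translate_isClassFunction hcl) (y := (1 : K)) (by simp), ← Finset.sum_filter]
    exact Finset.sum_congr (by ext; simp) fun _ _ => rfl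
  have hprod : (∑ χ : IrrCharacter G, S.col hj w (χ : G → ℂ) * conj (S.col hj v (χ : G → ℂ))) *
      conj L0 = 0 := by
    rw [Finset.sum_mul, Finset.sum_congr rfl (g := fun χ : IrrCharacter G =>
      ∑ ξ ∈ f.toFinite.toFinset, (Nat.card D : ℂ) * conj ((ξ : K → ℂ) 1) *
        (regTr (w : G) (χ : G → ℂ) L.ψ * conj (regTr (w : G) (χ : G → ℂ) ξ))) fun χ _ => by
      rw [mul_assoc, ← map_mul, hcol, map_sum, Finset.mul_sum,
        S.col_eq_regTr hj hw (Characters.isClassFunction_of_isIrr χ.2)]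
      exact Finset.sum_congr rfl fun ξ _ => by simp only [map_mul]; ring, Finset.sum_comm]
    refine Finset.sum_eq_zero fun ξ hξ => ?_
    rw [← Finset.mul_sum, sum_regTr S.modular (S.pElem w.2),
      MajorSubsection.regInner_eq_zero_of_not_mem S.modular L.one.block
        (fun hmem => hne (CfsgLib.Blocks.isPBlock_eq_of_mem hf L.one.block
          ((Set.Finite.mem_toFinset _).1 hξ) hmem)) L.one.mem, mul_zero]
  exact (mul_eq_zero.1 hprod).resolve_right (by simpa using hψ1)

open Classical in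
/-- The columns are invariant under the stabilizer. -/
theorem col_conj {w v : D} (hw : w ≠ 1) (hv : v ≠ 1) {t : G} (ht : t ∈ stab ⊤ D eP)
    (htw : t * (w : G) * t⁻¹ = v) (χ : IrrCharacter G) :
    S.col hj v (χ : G → ℂ) = S.col hj w (χ : G → ℂ) := by
  set L := S.locAt hj hw
  set L' := S.locAt hj hv
  obtain ⟨a, -, ha⟩ := Characters.exists_degree_pos L.ψ.2
  obtain ⟨b, -, hb⟩ := Characters.exists_degree_pos L'.ψ.2
  have hbel : conjA (Res M) t (below 2 D eP (Subgroup.zpowers (w : G))) =
      below 2 D eP (Subgroup.zpowers (v : G)) := by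
    refine (below_eq' S.max ?_).symm
    have := (le_below' S.max (S.zpowers_le w)).conjA (x := t) trivial
    rwa [cj_zpowers, htw, cj_eq_self ht.1.2, ht.2] at this
  have heq : ∀ θ : IrrCharacter G,
      S.col hj v (θ : G → ℂ) * (b : ℂ) = S.col hj w (θ : G → ℂ) * (a : ℂ) := by
    intro θ
    have hcl := Characters.isClassFunction_of_isIrr θ.2
    have hblw := isBlock_below S.max (S.zpowers_le w)
    have h2 := T_conj (M := M) hcl (t := t) hblw.idem
      (hblw.fixed _ (le_centralizer_of_le S.hab (S.zpowers_le w) w.2))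
    rw [hbel, htw, S.T_below_one hj hv hcl, S.T_below_one hj hw hcl, ha, hb] at h2
    exact h2
  have hn : (Nat.card D : ℂ) * ((b : ℂ) * b) = (Nat.card D : ℂ) * ((a : ℂ) * a) := by
    conv_lhs => rw [← S.sum_col_self hj hv, Finset.sum_mul]
    conv_rhs => rw [← S.sum_col_self hj hw, Finset.sum_mul]
    refine Finset.sum_congr rfl fun θ _ => ?_
    have h1 := heq θ
    have h2 := congrArg conj h1
    rw [map_mul, map_mul, Complex.conj_natCast, Complex.conj_natCast] at h2
    calc _ = (S.col hj v (θ : G → ℂ) * b) * (conj (S.col hj v (θ : G → ℂ)) * b) := by ring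
      _ = _ := by rw [h1, h2]; ring
  have hab : (b : ℂ) = a := by
    have h1 := mul_left_cancel₀ (Nat.cast_ne_zero.2 Nat.card_pos.ne') hn
    have h2 : b * b = a * a := by exact_mod_cast h1
    rw [Nat.mul_self_inj] at h2
    rw [h2]
  have ha0 : (a : ℂ) ≠ 0 := ha ▸ Characters.irr_one_ne_zero L.ψ.2
  have := heq χ
  rw [hab] at this
  exact mul_right_cancel₀ ha0 this

open Classical in
/-- The traces at `1` are invariant under the stabilizer. -/
theorem mu_conj {w v : D} (hw : w ≠ 1) (hv : v ≠ 1) {t : G} (ht : t ∈ stab ⊤ D eP)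
    (htw : t * (w : G) * t⁻¹ = v) :
    S.mu hj (Subgroup.zpowers (v : G)) = S.mu hj (Subgroup.zpowers (w : G)) := by
  set j' := conjA (Res M) t j with hj'
  have hσ : ∀ x, conjEquiv (k := Res M) t x ∈ sub (F := Res M) (⊤ : Subgroup G) D ↔
      x ∈ sub (F := Res M) (⊤ : Subgroup G) D := fun x => conjA_mem_sub_iff ht.1.2
  have hP' : Prim (sub (F := Res M) (⊤ : Subgroup G) D) j' :=
    hj.prim.map (σ := conjEquiv t) hσ
  have hbr' : br D j' = conjA (Res M) t (br D j) := by
    have h := conjA_br t D j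
    rw [map_conj_eq_self ht.1.2] at h
    exact h.symm
  have hj'L : Lead D eP j' := ⟨hP', by
    rw [hbr']
    conv_lhs => arg 2; rw [← ht.2]
    rw [← conjA_mul, hj.mul_eq], fun h0 => hj.ne_zero (conjA_injective t (by
      rw [← hbr', h0, conjA_zero]))⟩
  set KD := Subgroup.centralizer (D : Set G) with hKD
  set L := S.loc hj le_rfl (S.D_ne_bot hj)
  set L' := S.loc hj'L le_rfl (S.D_ne_bot hj'L)
  have hff : L'.f = L.f := by
    refine sblk_inj (M := M) L'.one.block L.one.block ?_
    rw [← emb_gblk, ← emb_gblk, L'.emb_f, L.emb_f]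
  obtain ⟨X0, Y0, hX0, hY0, hXY, hYX⟩ := (L.one.eqv (S.prim_a hj) L.mem_a (S.prim_a hj'L)
    (hff ▸ L'.mem_a)).exists_corner L.idem_a L'.idem_a
  have hmem : ∀ a : GA (Res M) KD, emb KD.subtype a ∈ sub (F := Res M) (⊤ : Subgroup G) D ∧
      br D (emb KD.subtype a) = emb KD.subtype a := by
    intro a
    have hs : IsSupp KD (emb KD.subtype a) := fun g hg => by
      by_contra hn
      exact hg (emb_coeff_not_mem _ a (by rwa [KD.range_subtype]))
    refine ⟨⟨isSupp_top _, fun d hd => ga_ext fun g => ?_⟩, br_eq_self hs⟩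
    rw [conjA_coeff]
    by_cases hg : g ∈ KD
    · rw [mul_assoc, ← Subgroup.mem_centralizer_iff.1 hg d hd, inv_mul_cancel_left]
    · rw [hs.coeff_eq_zero hg, hs.coeff_eq_zero]
      intro hn
      apply hg
      have h3 : g = d⁻¹ * g * d := by
        calc g = d * (d⁻¹ * g * d) * d⁻¹ := by group
          _ = _ := by rw [Subgroup.mem_centralizer_iff.1 hn d hd]; group
      rwa [h3]
  set X := emb KD.subtype X0 with hX
  set Y := emb KD.subtype Y0 with hY
  have hxc : InCorner (sub (F := Res M) (⊤ : Subgroup G) D) j j' (j * X * j') :=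
    InCorner.mk' hj.prim.2.1 hP'.2.1 hj.prim.1 hP'.1 (hmem X0).1
  have hyc : InCorner (sub (F := Res M) (⊤ : Subgroup G) D) j' j (j' * Y * j) :=
    InCorner.mk' hP'.2.1 hj.prim.2.1 hP'.1 hj.prim.1 (hmem Y0).1
  have hp := S.max.1.1.2.1
  have hbX : br D (j * X * j') = X := by
    rw [br_mul hp (mul_mem hj.prim.1 (hmem X0).1).2 hP'.1.2, br_mul hp hj.prim.1.2 (hmem X0).1.2,
      (hmem X0).2, ← L.emb_a, ← L'.emb_a, hX, ← map_mul, ← map_mul, hX0.2.1, hX0.2.2]
  have hbY : br D (j' * Y * j) = Y := by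
    rw [br_mul hp (mul_mem hP'.1 (hmem Y0).1).2 hj.prim.1.2, br_mul hp hP'.1.2 (hmem Y0).1.2,
      (hmem Y0).2, ← L.emb_a, ← L'.emb_a, hY, ← map_mul, ← map_mul, hY0.2.1, hY0.2.2]
  have hne : res (Res M) j (j * X * j' * (j' * Y * j)) ≠ 0 := by
    intro h0
    have hn := hj.prim.res_spec (hxc.mul hyc)
    rw [h0, zero_smul, sub_zero] at hn
    have h2 := isNilpotent_br hp (hxc.mul hyc).1.2 hn
    rw [br_mul hp hxc.1.2 hyc.1.2, hbX, hbY, hX, hY, ← map_mul, hXY, L.emb_a] at h2
    exact hj.ne_zero (eq_zero_of_idem_nilpotent (br_idem hp hj.prim.1.2 hj.prim.2.1) h2)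
  obtain ⟨u, hu, u', hu', h1, h2⟩ := eqv_of_res_ne hj.prim hP' hxc hyc hne
  have hχ : ∃ χ : IrrCharacter G, S.col hj v (χ : G → ℂ) ≠ 0 := by
    by_contra hno
    push Not at hno
    have := S.sum_col_self hj hv
    rw [Finset.sum_eq_zero fun χ _ => by rw [hno χ, zero_mul]] at this
    exact Nat.cast_ne_zero.2 Nat.card_pos.ne' this.symm
  obtain ⟨χ, hχ⟩ := hχ
  have hcl := Characters.isClassFunction_of_isIrr χ.2
  have e1 : T M (χ : G → ℂ) (v : G) j = T M (χ : G → ℂ) (w : G) j := by
    rw [T_equiv hcl hj.prim.2.1 hP'.2.1 h1 h2 (hu.2 _ v.2) (hu'.2 _ v.2), ← htw]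
    exact T_conj hcl hj.prim.2.1 (hj.prim.1.2 _ w.2)
  have e2 := (S.trD_eq hj hv hcl).symm.trans (e1.trans (S.trD_eq hj hw hcl))
  rw [← S.col_conj hj hw hv ht htw χ] at e2
  exact_mod_cast mul_left_cancel₀ hχ e2

/-- A column at a member is not zero. -/
theorem col_ne_zero {w : D} (hw : w ≠ 1) {χ : IrrCharacter G} (hχ : χ ∈ B) :
    S.col hj w (χ : G → ℂ) ≠ 0 := by
  classical
  intro hc
  obtain ⟨hk, f, hf, hind, hle⟩ := exists_sub S.modular S.block S.max w.2
  obtain ⟨k, hk'⟩ := id hk
  obtain ⟨φ, hφ, hφ0⟩ := CfsgLib.Blocks.exists_height_zero S.modular S.block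
  have hcent : D ≤ Subgroup.centralizer ({(w : G)} : Set G) := fun y hy =>
    Subgroup.mem_centralizer_singleton_iff.2 (Subgroup.mem_centralizer_iff.1 (S.hab w.2) y hy)
  refine BlocksCharsC.subContrib_ne_zero S.modular S.block hind
    (blockDefect_sub S.modular S.block S.max hcent hf hle) hk' hχ hφ hφ0 ?_
  have hcl := Characters.isClassFunction_of_isIrr χ.2
  have hfu := isBlockUnion_of_isPBlock hf
  have hb : below 2 D eP (Subgroup.zpowers (w : G)) =
      sblk M (Subgroup.centralizer ({(w : G)} : Set G)) f := below_eq' S.max hle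
  have hzero : ∀ s : ↥(Subgroup.centralizer ({(w : G)} : Set G)), ¬ 2 ∣ orderOf s →
      BlocksCharsC.secVal (w : G) f (χ : G → ℂ) s = 0 := by
    intro s hs
    have hmem : (s : G) ∈ Subgroup.centralizer ((Subgroup.zpowers (w : G) : Subgroup G) : Set G) := by
      rw [centralizer_zpowers_eq]; exact s.2
    have h := S.T_below hj hw hcl (s := ⟨(s : G), hmem⟩)
      (by rwa [Subgroup.orderOf_mk, Subgroup.orderOf_coe])
    rw [hc, zero_mul, hb, T_sblk S.modular hfu hcl] at h
    rw [← h, BlocksCharsC.secVal, Cfsg.blockPart, CfsgLib.Blocks.finsum_irr_mem,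
      show Fintype.ofFinite ↥(Subgroup.centralizer ({(w : G)} : Set G)) = _ from
        Subsingleton.elim _ _, ← Finset.sum_filter]
    exact Finset.sum_congr (by ext; simp) fun _ _ => rfl
  rw [BlocksCharsC.subContrib, BlocksCharsC.secInner,
    BlocksCharsC.regInner_congr_left (φ' := fun _ => (0 : ℂ)) _ hzero]
  simp [regInner]

end Setup

end CfsgLib.HomocyclicBlock
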