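import Cfsg.Agent.Characters.Exceptional

/-!
# Integral vectors with Gram matrix three plus the identity

Vectors `a i` on a set of irreducible characters, orthogonal to the degrees, with all inner
products `3 + δ`, at least five of them and no coordinate at which all vanish: there are exactly
three coordinates more than vectors, unless there are equally many.
-/

set_option autoImplicit false
set_option linter.style.haveILetI false
set_option linter.unusedSectionVars false

namespace CfsgLib.HomocyclicBlock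

universe u

variable {G : Type u} [Group G] [Fintype G] {ι : Type*} [Fintype ι]

open Classical in
theorem card_eq_add_three (B : Finset (Cfsg.IrrCharacter G)) (a : ι → Cfsg.IrrCharacter G → ℤ)
    (hgram : ∀ i j, ∑ χ ∈ B, a i χ * a j χ = if i = j then 4 else 3)
    (hdeg : ∀ i, ∑ χ ∈ B, (a i χ : ℂ) * (χ : G → ℂ) 1 = 0)
    (hnz : ∀ χ ∈ B, ∃ i, a i χ ≠ 0) (h5 : 5 ≤ Fintype.card ι) (hne : B.card ≠ Fintype.card ι) :
    B.card = Fintype.card ι + 3 := by
  obtain ⟨i₀⟩ : Nonempty ι := Fintype.card_pos_iff.1 (by omega)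
  let v : ι → Cfsg.IrrCharacter G → ℤ := fun i χ => if χ ∈ B then a i χ - a i₀ χ else 0
  let τ : ι → G → ℂ := fun i => ∑ χ, (v i χ : ℂ) • (χ : G → ℂ)
  have hgen : ∀ i, Cfsg.IsGeneralizedCharacter G (τ i) := fun i =>
    Characters.isGen_sum _ _ fun χ _ =>
      Characters.isGen_zsmul (Characters.isGen_of_isIrr χ.2) _
  have hcoef : ∀ (i : ι) (χ : Cfsg.IrrCharacter G),
      Cfsg.classInner (τ i) (χ : G → ℂ) = v i χ := fun i χ =>
    Characters.classInner_irr_coeff _ χ
  have hone : ∀ i, τ i 1 = 0 := fun i => by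
    simp only [τ, v, Finset.sum_apply, Pi.smul_apply, smul_eq_mul]
    calc ∑ χ, ((if χ ∈ B then a i χ - a i₀ χ else 0 : ℤ) : ℂ) * (χ : G → ℂ) 1
        = ∑ χ ∈ B, ((a i χ : ℂ) * (χ : G → ℂ) 1 - (a i₀ χ : ℂ) * (χ : G → ℂ) 1) := by
          rw [← Finset.sum_subset (Finset.subset_univ B) fun χ _ h => by simp [h]]
          refine Finset.sum_congr rfl fun χ h => ?_
          rw [if_pos h, Int.cast_sub, sub_mul]
      _ = 0 := by rw [Finset.sum_sub_distrib, hdeg, hdeg, sub_zero]
  have hgram' : ∀ i j, i ≠ i₀ → j ≠ i₀ →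
      Cfsg.classInner (τ i) (τ j) = if i = j then 2 else 1 := fun i j hi hj => by
    rw [show τ j = ∑ χ, (v j χ : ℂ) • (χ : G → ℂ) from rfl, Characters.classInner_sum_right]
    simp only [Characters.classInner_smul_right, hcoef, map_intCast]
    rw [← Finset.sum_subset (Finset.subset_univ B) fun χ _ h => by simp [v, h]]
    have hint : ∑ χ ∈ B, v j χ * v i χ = if i = j then 2 else 1 := by
      rw [Finset.sum_congr rfl (g := fun χ => a j χ * a i χ - a j χ * a i₀ χ - a i₀ χ * a i χ +
        a i₀ χ * a i₀ χ) fun χ h => by simp only [v, if_pos h]; ring]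
      rw [Finset.sum_add_distrib, Finset.sum_sub_distrib, Finset.sum_sub_distrib, hgram, hgram,
        hgram, hgram, if_neg hj, if_neg (Ne.symm hi), if_pos rfl]
      simp only [eq_comm (a := j)]
      split_ifs <;> norm_num
    have := congrArg (fun z : ℤ => (z : ℂ)) hint
    push_cast at this
    exact this
  obtain ⟨ε, hε, μ, hμ, hinj, hτ⟩ := Characters.exists_exceptional i₀ τ
    (funext fun g => by simp [τ, v]) hgen hone hgram'
  obtain ⟨s, rfl, hs⟩ : ∃ s : ℤ, ε = s ∧ s * s = 1 := by
    rcases hε with rfl | rfl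
    exacts [⟨1, by simp, rfl⟩, ⟨-1, by simp, rfl⟩]
  let m : ι → Cfsg.IrrCharacter G := fun i => ⟨μ i, hμ i⟩
  have hm : Function.Injective m := fun i j h => hinj (congrArg Subtype.val h)
  have hv : ∀ i χ, v i χ = s * ((if χ = m i then 1 else 0) - if χ = m i₀ then 1 else 0) := by
    intro i χ
    refine Int.cast_injective (α := ℂ) ?_
    rw [← hcoef, hτ, Characters.classInner_smul_left, Characters.classInner_sub_left,
      show μ i = (m i : G → ℂ) from rfl, show μ i₀ = (m i₀ : G → ℂ) from rfl,
      Characters.classInner_irr, Characters.classInner_irr]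
    simp only [eq_comm (a := χ)]
    push_cast
    rfl
  have hmB : ∀ i, m i ∈ B := by
    intro i
    by_contra hn
    by_cases hi : i = i₀
    · subst hi
      obtain ⟨j, hj⟩ : ∃ j, j ≠ i := Fintype.exists_ne_of_one_lt_card (by omega) i
      have h := hv j (m i)
      simp only [v, if_neg hn, if_pos, if_neg (fun e => hj (hm e).symm)] at h
      rcases mul_eq_zero.1 h.symm with h | h
      · simp [h] at hs
      · omega
    · have h := hv i (m i)
      simp only [v, if_neg hn, if_pos, if_neg (fun e => hi (hm e))] at h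
      rcases mul_eq_zero.1 h.symm with h | h
      · simp [h] at hs
      · omega
  -- all vectors are one vector plus signed unit vectors
  let c : Cfsg.IrrCharacter G → ℤ := fun χ => a i₀ χ - s * if χ = m i₀ then 1 else 0
  have ha : ∀ i, ∀ χ ∈ B, a i χ = c χ + if χ = m i then s else 0 := by
    intro i χ hχ
    have h := hv i χ
    simp only [v, if_pos hχ] at h
    simp only [c]
    split_ifs at h ⊢ <;> linarith
  set C := ∑ χ ∈ B, c χ * c χ with hC
  have hsum : ∀ i j, ∑ χ ∈ B, a i χ * a j χ =
      C + s * c (m i) + s * c (m j) + if i = j then 1 else 0 := by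
    intro i j
    rw [Finset.sum_congr rfl (g := fun χ => c χ * c χ + (if χ = m i then s * c χ else 0) +
      (if χ = m j then s * c χ else 0) + if χ = m i then (if χ = m j then s * s else 0) else 0)
      fun χ h => by rw [ha i χ h, ha j χ h]; split_ifs <;> ring]
    rw [Finset.sum_add_distrib, Finset.sum_add_distrib, Finset.sum_add_distrib, ← hC,
      Finset.sum_ite_eq' B (m i), Finset.sum_ite_eq' B (m j), Finset.sum_ite_eq' B (m i),
      if_pos (hmB i), if_pos (hmB j), if_pos (hmB i), hs]
    simp only [hm.eq_iff]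
  have hb : ∀ i, s * c (m i) = s * c (m i₀) := fun i => by
    have h1 := (hsum i i).symm.trans (hgram i i)
    have h2 := (hsum i₀ i₀).symm.trans (hgram i₀ i₀)
    simp only [if_pos] at h1 h2
    linarith
  set b := s * c (m i₀) with hbdef
  have hC3 : C = 3 - 2 * b := by
    have h2 := (hsum i₀ i₀).symm.trans (hgram i₀ i₀)
    simp only [if_pos] at h2
    linarith
  set I := (Finset.univ : Finset ι).image m with hI
  have hIB : I ⊆ B := fun χ h => by
    obtain ⟨i, -, rfl⟩ := Finset.mem_image.1 h
    exact hmB i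
  have hIc : I.card = Fintype.card ι := by rw [hI, Finset.card_image_of_injective _ hm, Finset.card_univ]
  have hout : ∑ χ ∈ B \ I, c χ * c χ = 3 - 2 * b - (Fintype.card ι : ℤ) * (b * b) := by
    have h := Finset.sum_sdiff (f := fun χ => c χ * c χ) hIB
    rw [← hC, hC3, hI, Finset.sum_image fun i _ j _ e => hm e,
      show ∑ i : ι, c (m i) * c (m i) = (Fintype.card ι : ℤ) * (b * b) by
        rw [Finset.sum_congr rfl (g := fun _ => b * b) fun i _ => by
            rw [← hb i, mul_mul_mul_comm, hs, one_mul],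
          Finset.sum_const, Finset.card_univ, nsmul_eq_mul]] at h
    rw [hI]
    linarith
  have hne0 : ∀ χ ∈ B \ I, 1 ≤ c χ * c χ := by
    intro χ hχ
    obtain ⟨hχB, hχI⟩ := Finset.mem_sdiff.1 hχ
    obtain ⟨i, hi⟩ := hnz χ hχB
    rw [ha i χ hχB, if_neg fun e => hχI (Finset.mem_image.2 ⟨i, Finset.mem_univ _, e.symm⟩),
      add_zero] at hi
    have h := mul_self_pos.2 hi
    omega
  have hlow : ((B \ I).card : ℤ) ≤ ∑ χ ∈ B \ I, c χ * c χ := by
    simpa using Finset.sum_le_sum hne0
  have hcard : B.card = (B \ I).card + Fintype.card ι := by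
    rw [← hIc, Finset.card_sdiff_add_card_eq_card hIB]
  have hb0 : b = 0 := by
    have h0 : (0 : ℤ) ≤ (B \ I).card := Int.natCast_nonneg _
    have hn : (5 : ℤ) ≤ Fintype.card ι := by exact_mod_cast h5
    have hbb : -1 ≤ b ∧ b ≤ 0 := by
      constructor <;> nlinarith
    obtain h | h : b = -1 ∨ b = 0 := by omega
    · exfalso
      rw [h] at hout
      have : (B \ I).card = 0 := by nlinarith
      omega
    · exact h
  rw [hb0] at hout
  have hsq : ∀ χ ∈ B \ I, c χ * c χ = 1 := by
    intro χ hχ
    have h1 := Finset.single_le_sum (f := fun χ => c χ * c χ) (fun χ _ => mul_self_nonneg _) hχ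
    rw [hout] at h1
    have h2 := hne0 χ hχ
    have : -1 ≤ c χ ∧ c χ ≤ 1 := by constructor <;> nlinarith
    obtain e | e | e : c χ = -1 ∨ c χ = 0 ∨ c χ = 1 := by omega
    · rw [e]; norm_num
    · rw [e] at h2; norm_num at h2
    · rw [e]; norm_num
  rw [Finset.sum_congr rfl hsq, Finset.sum_const, nsmul_eq_mul, mul_one] at hout
  omega

end CfsgLib.HomocyclicBlock
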