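import Cfsg.Agent.HomocyclicBlock.Glue
import Cfsg.Agent.HomocyclicBlock.Frame
import Cfsg.Agent.BlockPairing.DefectOne

/-!
# The invariants of a 2-block with defect group `C_q × C_q`, `q = 2 ^ m ≥ 4`
-/

set_option autoImplicit false
set_option linter.unusedSectionVars false
set_option linter.style.haveILetI false
set_option maxHeartbeats 800000

namespace CfsgLib.HomocyclicBlock

open Cfsg CfsgLib.BlockPairs CfsgLib.Star CfsgLib.InertialQuotient
open CfsgLib.Blocks (Res)
open CfsgLib.BlocksFrobenius (sum_apply sum_dual_apply conj_apply card_dual)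
open scoped ComplexConjugate

universe u

section Dual

variable {A : Type*} [Group A] [Fintype A] [IsMulCommutative A] {σ : MulAut A}
  (h3 : ∀ a, σ (σ (σ a)) = a) (hfree : ∀ a, a ≠ 1 → σ a ≠ a)

include hfree in
/-- A character fixed by a semiregular automorphism is trivial. -/
theorem eq_one_of_comp_eq {ψ : A →* ℂˣ} (h : ∀ a, ψ (σ a) = ψ a) : ψ = 1 := by
  let f : A → A := fun a => σ a * a⁻¹
  have hinj : Function.Injective f := fun a b hab => by
    by_contra hne
    refine hfree (a * b⁻¹) (fun e => hne (mul_inv_eq_one.1 e)) ?_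
    have h1 : σ a * a⁻¹ = σ b * b⁻¹ := hab
    calc σ (a * b⁻¹) = σ a * a⁻¹ * a * (σ b)⁻¹ := by
          rw [map_mul, map_inv, inv_mul_cancel_right]
      _ = σ b * (b⁻¹ * a) * (σ b)⁻¹ := by rw [h1, mul_assoc (σ b) b⁻¹ a]
      _ = b⁻¹ * a := by rw [mul_comm' (σ b) (b⁻¹ * a), mul_inv_cancel_right]
      _ = a * b⁻¹ := mul_comm' _ _
  refine MonoidHom.ext fun c => ?_
  obtain ⟨a, rfl⟩ := (Finite.injective_iff_surjective.1 hinj) c
  simp only [f, map_mul, map_inv, h, mul_inv_cancel, MonoidHom.one_apply]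

end Dual

variable {G : Type u} [Group G] [Fintype G] [∀ H : Subgroup G, Fintype H] {M : Ideal AlgInt}
  [M.IsPrime] [CharP (Res M) 2] [IsAlgClosed (Res M)]
  {B : Set (IrrCharacter G)} {D : Subgroup G} {eP : GA (Res M) G} {m : ℕ}

namespace Setup

variable (S : Setup M B D eP m)

include S

theorem rk_zpowers {w : D} (hw : w ≠ 1) : rk 2 D eP (Subgroup.zpowers (w : G)) = 1 := by
  obtain ⟨j, hj⟩ := S.exists_lead
  set L := S.loc hj (S.zpowers_le w) (S.zpowers_ne_bot hw)
  rw [rk, ← L.emb_f, emb_gblk, rkE_sblk L.one.block, L.one.blockRank_eq]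

theorem rk_bot : rk 2 D eP (Subgroup.zpowers ((1 : D) : G)) = Cfsg.blockRank 2 B := by
  refine rk_of_centralizer_top S.block S.max S.hab S.modular (S.zpowers_le 1) ?_
  rw [Subgroup.centralizer_eq_top_iff_subset]
  intro x hx
  rw [SetLike.mem_coe, OneMemClass.coe_one, Subgroup.zpowers_one_eq_bot, Subgroup.mem_bot] at hx
  rw [hx]
  exact one_mem _

open Classical in
/-- With a nontrivial inertial quotient there are three p-regular Brauer characters. -/
theorem invariants_of_three (hT : ¬ stab ⊤ D eP ≤ Subgroup.centralizer (D : Set G)) :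
    Cfsg.blockRank 2 B = 3 ∧ 3 * Nat.card B = 4 ^ m + 8 := by
  obtain ⟨σ, h3, hfree, hfree2, ⟨t₀, ht₀, hσt⟩, htT⟩ := S.exists_sigma hT
  obtain ⟨j, hj⟩ := S.exists_lead
  obtain ⟨Γ, hΓ1, hΓσ, hcoef⟩ := S.exists_glue hj h3 ht₀ hσt
  haveI : IsMulCommutative D := ⟨⟨S.comm⟩⟩
  haveI := BlocksFrobenius.finite_dual (A := D)
  haveI := Fintype.ofFinite (D →* ℂˣ)
  set q : ℂ := (Fintype.card D : ℂ) with hq
  have hq0 : q ≠ 0 := Nat.cast_ne_zero.2 Fintype.card_ne_zero
  have hσ1 : ∀ {w : D}, w ≠ 1 → σ w ≠ 1 := fun hw h => hw (σ.injective (h.trans (map_one σ).symm))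
  let h : IrrCharacter G → D → ℂ := fun χ w => S.col hj w (χ : G → ℂ) * conj (Γ w)
  have hcolσ : ∀ (χ : IrrCharacter G) {w : D}, w ≠ 1 → S.col hj (σ w) (χ : G → ℂ) = S.col hj w (χ : G → ℂ) :=
    fun χ {w} hw => S.col_conj hj hw (hσ1 hw) ht₀ (hσt w).symm χ
  choose a ha using hcoef
  have ha' : ∀ χ ψ, ∑ w ∈ (Finset.univ : Finset D).erase 1, (1 - conj (ψ w : ℂ)) * h χ w =
      q * (a χ ψ : ℂ) := ha
  -- invariance under `σ`
  have hinv : ∀ χ (ψ : D →* ℂˣ), a χ (ψ.comp σ.toMonoidHom) = a χ ψ := by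
    intro χ ψ
    refine Int.cast_injective (α := ℂ) (mul_left_cancel₀ hq0 ?_)
    rw [← ha', ← ha']
    refine Finset.sum_bij (fun w _ => σ w) (fun w hw => ?_) (fun w _ v _ e => σ.injective e)
      (fun v hv => ⟨σ (σ v), ?_, h3 v⟩) (fun w hw => ?_)
    · exact Finset.mem_erase.2 ⟨hσ1 (Finset.ne_of_mem_erase hw), Finset.mem_univ _⟩
    · exact Finset.mem_erase.2 ⟨hσ1 (hσ1 (Finset.ne_of_mem_erase hv)), Finset.mem_univ _⟩
    · simp only [h, hcolσ χ (Finset.ne_of_mem_erase hw), hΓσ w (Finset.ne_of_mem_erase hw)]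
      rfl
  have hone : ∀ χ, a χ 1 = 0 := by
    intro χ
    refine Int.cast_injective (α := ℂ) (mul_left_cancel₀ hq0 ?_)
    rw [← ha', Int.cast_zero, mul_zero]
    exact Finset.sum_eq_zero fun w _ => by simp
  have hoff : ∀ χ, χ ∉ B → ∀ ψ, a χ ψ = 0 := by
    intro χ hχ ψ
    refine Int.cast_injective (α := ℂ) (mul_left_cancel₀ hq0 ?_)
    rw [← ha', Int.cast_zero, mul_zero]
    exact Finset.sum_eq_zero fun w _ => by simp [h, S.col_eq_zero hj w hχ]
  -- the products of two columns
  have horb : ∀ {w v : D}, w ≠ 1 → v ≠ 1 →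
      ∑ χ : IrrCharacter G, h χ w * conj (h χ v) =
        q * ((if v = w then (1 : ℂ) else 0) + (if v = σ w then 1 else 0) +
          if v = σ (σ w) then 1 else 0) := by
    intro w v hw hv
    have hne1 : σ w ≠ w := hfree w hw
    have hne2 : σ (σ w) ≠ w := fun e => hw (hfree2 w e)
    have hne3 : σ (σ w) ≠ σ w := fun e => hne1 (σ.injective e)
    have hsum : ∑ χ : IrrCharacter G, h χ w * conj (h χ v) = conj (Γ w) * Γ v *
        ∑ χ : IrrCharacter G, S.col hj w (χ : G → ℂ) * conj (S.col hj v (χ : G → ℂ)) := by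
      rw [Finset.mul_sum]
      refine Finset.sum_congr rfl fun χ _ => ?_
      simp only [h, map_mul, Complex.conj_conj]
      ring
    rw [hsum]
    by_cases hmem : v = w ∨ v = σ w ∨ v = σ (σ w)
    · have hcol : ∀ χ : IrrCharacter G, S.col hj v (χ : G → ℂ) = S.col hj w (χ : G → ℂ) := by
        intro χ
        rcases hmem with rfl | rfl | rfl
        · rfl
        · exact hcolσ χ hw
        · rw [hcolσ χ (hσ1 hw), hcolσ χ hw]
      have hΓ : Γ v = Γ w := by
        rcases hmem with rfl | rfl | rfl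
        · rfl
        · exact hΓσ w hw
        · rw [hΓσ _ (hσ1 hw), hΓσ w hw]
      rw [hΓ, mul_comm (conj (Γ w)), hΓ1 w hw, one_mul,
        Finset.sum_congr rfl fun χ _ => by rw [hcol χ], S.sum_col_self hj hw, Nat.card_eq_fintype_card]
      rcases hmem with rfl | rfl | rfl
      · rw [if_pos rfl, if_neg (Ne.symm hne1), if_neg (Ne.symm hne2)]; ring
      · rw [if_neg hne1, if_pos rfl, if_neg (Ne.symm hne3)]; ring
      · rw [if_neg hne2, if_neg hne3, if_pos rfl]; ring
    · simp only [not_or] at hmem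
      rw [S.sum_col_orth hj hw hv fun t ht e => ?_, if_neg hmem.1, if_neg hmem.2.1, if_neg hmem.2.2]
      · ring
      · rcases htT t ht w with h' | h' | h' <;> rw [e] at h'
        · exact hmem.1 (Subtype.ext h')
        · exact hmem.2.1 (Subtype.ext h')
        · exact hmem.2.2 (Subtype.ext h')
  -- the Gram matrix
  have hgram : ∀ ψ ψ' : D →* ℂˣ, ψ ≠ 1 → ψ' ≠ 1 →
      ∑ χ : IrrCharacter G, (a χ ψ : ℂ) * (a χ ψ' : ℂ) =
        3 + (if ψ' = ψ then 1 else 0) + (if ψ'.comp σ.toMonoidHom = ψ then 1 else 0) +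
          if (ψ'.comp σ.toMonoidHom).comp σ.toMonoidHom = ψ then 1 else 0 := by
    intro ψ ψ' hψ hψ'
    refine mul_left_cancel₀ (mul_ne_zero hq0 hq0) ?_
    set E := (Finset.univ : Finset D).erase 1
    have hterm : ∀ χ : IrrCharacter G, q * q * ((a χ ψ : ℂ) * (a χ ψ' : ℂ)) =
        ∑ w ∈ E, ∑ v ∈ E, (1 - conj (ψ w : ℂ)) * (1 - (ψ' v : ℂ)) * (h χ w * conj (h χ v)) := by
      intro χ
      have hc : q * (a χ ψ' : ℂ) = conj (q * (a χ ψ' : ℂ)) := by
        rw [map_mul, hq, Complex.conj_natCast, map_intCast]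
      calc _ = (q * (a χ ψ : ℂ)) * conj (q * (a χ ψ' : ℂ)) := by rw [← hc]; ring
        _ = _ := by
          rw [← ha', ← ha', map_sum, Finset.sum_mul_sum]
          refine Finset.sum_congr rfl fun w _ => Finset.sum_congr rfl fun v _ => ?_
          rw [map_mul, map_sub, map_one, Complex.conj_conj]
          ring
    rw [Finset.mul_sum, Finset.sum_congr rfl fun χ _ => hterm χ, Finset.sum_comm]
    simp_rw [Finset.sum_comm (s := (Finset.univ : Finset (IrrCharacter G))), ← Finset.mul_sum]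
    have hin : ∀ w ∈ E, ∑ v ∈ E, (1 - conj (ψ w : ℂ)) * (1 - (ψ' v : ℂ)) *
        ∑ χ : IrrCharacter G, h χ w * conj (h χ v) =
        q * ((1 - conj (ψ w : ℂ)) * ((1 - (ψ' w : ℂ)) + (1 - (ψ' (σ w) : ℂ)) +
          (1 - (ψ' (σ (σ w)) : ℂ)))) := by
      intro w hw
      have hw1 := Finset.ne_of_mem_erase hw
      have hm : ∀ {v : D}, v ≠ 1 → v ∈ E := fun hv => Finset.mem_erase.2 ⟨hv, Finset.mem_univ _⟩
      rw [Finset.sum_congr rfl (g := fun v =>
        q * (1 - conj (ψ w : ℂ)) * ((if v = w then 1 - (ψ' v : ℂ) else 0) +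
          (if v = σ w then 1 - (ψ' v : ℂ) else 0) + if v = σ (σ w) then 1 - (ψ' v : ℂ) else 0))
        fun v hv => by
          rw [horb hw1 (Finset.ne_of_mem_erase hv)]
          split_ifs <;> ring]
      rw [← Finset.mul_sum, Finset.sum_add_distrib, Finset.sum_add_distrib,
        Finset.sum_ite_eq' E w, Finset.sum_ite_eq' E (σ w), Finset.sum_ite_eq' E (σ (σ w)),
        if_pos (hm hw1), if_pos (hm (hσ1 hw1)), if_pos (hm (hσ1 (hσ1 hw1)))]
      ring
    rw [Finset.sum_congr rfl hin, ← Finset.mul_sum, Finset.sum_erase _ (by simp)]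
    have hpair : ∀ χ' : D →* ℂˣ, χ' ≠ 1 →
        ∑ w : D, (1 - conj (ψ w : ℂ)) * (1 - (χ' w : ℂ)) = q + if χ' = ψ then q else 0 := by
      intro χ' hχ'
      have e : ∀ w : D, (1 - conj (ψ w : ℂ)) * (1 - (χ' w : ℂ)) =
          1 - ((ψ⁻¹ w : ℂˣ) : ℂ) - (χ' w : ℂ) + (((ψ⁻¹ * χ') w : ℂˣ) : ℂ) := fun w => by
        rw [conj_apply, MonoidHom.mul_apply, Units.val_mul]
        ring
      have hi : ψ⁻¹ * χ' = 1 ↔ χ' = ψ := by
        constructor
        · intro he
          ext d
          have h1 := DFunLike.congr_fun he d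
          simp only [MonoidHom.mul_apply, MonoidHom.inv_apply, MonoidHom.one_apply] at h1
          rw [inv_mul_eq_one.1 h1]
        · rintro rfl
          ext d
          simp
      simp only [e, Finset.sum_add_distrib, Finset.sum_sub_distrib, BlocksFrobenius.sum_apply,
        Finset.sum_const, Finset.card_univ, nsmul_eq_mul, mul_one, ← hq,
        if_neg (BlocksFrobenius.inv_ne hψ), if_neg hχ', sub_zero, hi, Nat.card_eq_fintype_card]
    have hcomp : ∀ χ' : D →* ℂˣ, χ' ≠ 1 → χ'.comp σ.toMonoidHom ≠ 1 := fun χ' hne he =>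
      hne (MonoidHom.ext fun d => by
        have := DFunLike.congr_fun he (σ.symm d)
        simpa using this)
    simp only [mul_add (1 - conj ((ψ _ : ℂˣ) : ℂ)), Finset.sum_add_distrib]
    have e1 : ∑ w : D, (1 - conj (ψ w : ℂ)) * (1 - (ψ' (σ w) : ℂ)) = _ :=
      hpair (ψ'.comp σ.toMonoidHom) (hcomp _ hψ')
    have e2 : ∑ w : D, (1 - conj (ψ w : ℂ)) * (1 - (ψ' (σ (σ w)) : ℂ)) = _ :=
      hpair ((ψ'.comp σ.toMonoidHom).comp σ.toMonoidHom) (hcomp _ (hcomp _ hψ'))
    rw [hpair ψ' hψ', e1, e2]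
    split_ifs <;> ring
  -- the orbits of the nontrivial characters
  let rot : (D →* ℂˣ) → (D →* ℂˣ) := fun ψ => ψ.comp σ.toMonoidHom
  have hrot3 : ∀ ψ, rot (rot (rot ψ)) = ψ := fun ψ =>
    MonoidHom.ext fun d => congrArg ψ (h3 d)
  have hrot1 : ∀ {ψ}, ψ ≠ 1 → rot ψ ≠ 1 := fun {ψ} hne he => hne (by
    rw [← hrot3 ψ, he]; ext d; simp [rot])
  have hrotne : ∀ {ψ}, ψ ≠ 1 → rot ψ ≠ ψ ∧ rot (rot ψ) ≠ ψ := fun {ψ} hne =>
    ⟨fun he => hne (eq_one_of_comp_eq hfree fun d => DFunLike.congr_fun he d), fun he => hne (by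
      refine eq_one_of_comp_eq hfree fun d => ?_
      have h1 : rot (rot (rot ψ)) = rot ψ := congrArg rot he
      rw [hrot3] at h1
      exact (DFunLike.congr_fun h1 d).symm)⟩
  let Ψ := {ψ : D →* ℂˣ // ψ ≠ 1}
  let St : Setoid Ψ :=
    { r := fun x y => y.1 = x.1 ∨ y.1 = rot x.1 ∨ y.1 = rot (rot x.1)
      iseqv := ⟨fun x => Or.inl rfl, fun {x y} h => by
          rcases h with h | h | h <;> simp only [h, hrot3, true_or, or_true],
        fun {x y z} h h' => by
          rcases h with h | h | h <;> rcases h' with h' | h' | h' <;>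
            simp only [h', h, hrot3, true_or, or_true]⟩ }
  haveI : Fintype (Quotient St) := Fintype.ofFinite _
  let rep : Quotient St → (D →* ℂˣ) := fun o => (Quotient.out o).1
  have hrep1 : ∀ o, rep o ≠ 1 := fun o => (Quotient.out o).2
  have hrep : ∀ ψ (hψ : ψ ≠ 1), ψ = rep (Quotient.mk St ⟨ψ, hψ⟩) ∨
      ψ = rot (rep (Quotient.mk St ⟨ψ, hψ⟩)) ∨ ψ = rot (rot (rep (Quotient.mk St ⟨ψ, hψ⟩))) :=
    fun ψ hψ => Quotient.mk_out (s := St) ⟨ψ, hψ⟩
  have hcl : ∀ o o', (rep o' = rep o ∨ rot (rep o') = rep o ∨ rot (rot (rep o')) = rep o) →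
      o = o' := by
    intro o o' he
    rw [← Quotient.out_eq o, ← Quotient.out_eq o']
    refine (Quotient.sound ?_).symm
    rcases he with he | he | he
    exacts [Or.inl he.symm, Or.inr (Or.inl he.symm), Or.inr (Or.inr he.symm)]
  -- counting the characters
  have hcount : Fintype.card D = 3 * Fintype.card (Quotient St) + 1 := by
    have e : Fintype.card Ψ = 3 * Fintype.card (Quotient St) := by
      let f : Quotient St × Fin 3 → Ψ := fun x => ⟨rot^[(x.2 : ℕ)] (rep x.1), by
        rcases x with ⟨o, i⟩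
        fin_cases i
        exacts [hrep1 o, hrot1 (hrep1 o), hrot1 (hrot1 (hrep1 o))]⟩
      rw [mul_comm, ← Fintype.card_fin 3, ← Fintype.card_prod]
      refine (Fintype.card_of_bijective (f := f) ⟨?_, ?_⟩).symm
      · rintro ⟨o, i⟩ ⟨o', i'⟩ he
        have he' : rot^[(i : ℕ)] (rep o) = rot^[(i' : ℕ)] (rep o') := congrArg Subtype.val he
        have hri : Function.Injective rot := fun x y e => by rw [← hrot3 x, e, hrot3]
        obtain rfl : o = o' := by
          fin_cases i <;> fin_cases i' <;>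
            simp only [Function.iterate_succ, Function.iterate_zero, Function.comp_apply, id,
              hri.eq_iff] at he'
          all_goals first
            | exact hcl o o' (Or.inl he'.symm)
            | exact hcl o o' (Or.inr (Or.inl he'.symm))
            | exact hcl o o' (Or.inr (Or.inr he'.symm))
            | exact (hcl o' o (Or.inr (Or.inl he'))).symm
            | exact (hcl o' o (Or.inr (Or.inr he'))).symm
        obtain rfl : i = i' := by
          have hn := hrotne (hrep1 o)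
          have hn2 := hrotne (hrot1 (hrep1 o))
          fin_cases i <;> fin_cases i' <;>
            simp only [Function.iterate_succ, Function.iterate_zero, Function.comp_apply, id] at he'
          all_goals first
            | rfl
            | exact absurd he' hn.1
            | exact absurd he'.symm hn.1
            | exact absurd he' hn.2
            | exact absurd he'.symm hn.2
            | exact absurd he' hn2.1
            | exact absurd he'.symm hn2.1
        rfl
      · rintro ⟨ψ, hψ⟩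
        rcases hrep ψ hψ with he | he | he
        · exact ⟨⟨_, 0⟩, Subtype.ext he.symm⟩
        · exact ⟨⟨_, 1⟩, Subtype.ext he.symm⟩
        · exact ⟨⟨_, 2⟩, Subtype.ext he.symm⟩
    rw [← e, Fintype.card_subtype_compl, Fintype.card_subtype_eq]
    have hd : Fintype.card (D →* ℂˣ) = Fintype.card D := by
      rw [← Nat.card_eq_fintype_card, ← Nat.card_eq_fintype_card, card_dual]
    have := Fintype.card_pos (α := D)
    omega
  let Bf := B.toFinite.toFinset
  have hBf : ∀ χ, χ ∈ Bf ↔ χ ∈ B := fun χ => Set.Finite.mem_toFinset _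
  have hk : Bf.card = Nat.card B := by
    rw [Nat.card_eq_card_finite_toFinset]
  -- the master sum
  have hmaster : (Nat.card B : ℂ) =
      (Cfsg.blockRank 2 B : ℂ) + ((Fintype.card D : ℂ) - 1) / 3 := by
    have hs : (Nat.card B : ℂ) = ∑ w : D,
        (rk 2 D eP (Subgroup.zpowers (w : G)) : ℂ) / (ocard (stab ⊤ D eP) (w : G) : ℂ) := by
      rw [card_eq_sum S.block S.max S.hab S.modular]
      exact Finset.sum_congr (Finset.ext fun x => by simp) fun _ _ => rfl
    rw [hs, ← Finset.add_sum_erase _ _ (Finset.mem_univ (1 : D)),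
      S.rk_bot, ocard_of_fixed (fun t _ => by simp), Nat.cast_one, div_one,
      Finset.sum_congr rfl (g := fun _ => (3 : ℂ)⁻¹) fun w hw => ?_, Finset.sum_const,
      Finset.card_erase_of_mem (Finset.mem_univ _), Finset.card_univ, nsmul_eq_mul,
      Nat.cast_sub (Fintype.card_pos), Nat.cast_one, div_eq_mul_inv]
    have hw1 := Finset.ne_of_mem_erase hw
    rw [S.rk_zpowers hw1, Nat.cast_one, one_div]
    congr 1
    have horbit : orb (stab ⊤ D eP) (w : G) =
        {(w : G), ((σ w : D) : G), ((σ (σ w) : D) : G)} := by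
      ext v
      simp only [Set.mem_insert_iff, Set.mem_singleton_iff]
      constructor
      · rintro ⟨t, ht, rfl⟩
        exact htT t ht w
      · rintro (rfl | rfl | rfl)
        · exact mem_orb_self _ _
        · exact ⟨t₀, ht₀, (hσt w).symm⟩
        · refine ⟨t₀ * t₀, mul_mem ht₀ ht₀, ?_⟩
          rw [hσt, hσt]
          group
    have n1 : (w : G) ≠ ((σ w : D) : G) := fun e => hfree w hw1 (Subtype.ext e).symm
    have n2 : (w : G) ≠ ((σ (σ w) : D) : G) := fun e => hw1 (hfree2 w (Subtype.ext e).symm)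
    have n3 : ((σ w : D) : G) ≠ ((σ (σ w) : D) : G) := fun e =>
      hfree w hw1 (σ.injective (Subtype.ext e)).symm
    rw [ocard, horbit, Nat.card_coe_set_eq, Set.ncard_insert_of_notMem (by simp [n1, n2]),
      Set.ncard_pair n3]
    norm_num
  have hkn : (Nat.card B : ℕ) = Cfsg.blockRank 2 B + Fintype.card (Quotient St) := by
    have : (Nat.card B : ℂ) = ((Cfsg.blockRank 2 B + Fintype.card (Quotient St) : ℕ) : ℂ) := by
      rw [hmaster, hcount]
      push_cast
      ring
    exact_mod_cast this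
  have hrank : 1 ≤ Cfsg.blockRank 2 B :=
    BlockPairing.one_le_blockRank (CfsgLib.Blocks.isPBlock_nonempty S.block)
  have hn5 : 5 ≤ Fintype.card (Quotient St) := by
    have h16 : 4 ^ 2 ≤ 4 ^ m := Nat.pow_le_pow_right (by norm_num) S.two_le
    rw [← S.card, Nat.card_eq_fintype_card, hcount] at h16
    omega
  -- the frame
  have hframe := card_eq_add_three Bf (fun o χ => a χ (rep o)) (fun o o' => ?_) (fun o => ?_)
    (fun χ hχ => ?_) hn5 (by omega)
  · have h4 := S.card
    rw [Nat.card_eq_fintype_card, hcount] at h4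
    constructor <;> omega
  · refine Int.cast_injective (α := ℂ) ?_
    rw [Int.cast_sum]
    simp only [Int.cast_mul]
    rw [Finset.sum_subset (Finset.subset_univ Bf) fun χ _ hn => by
      rw [hoff χ (fun h' => hn ((hBf χ).2 h')), Int.cast_zero, zero_mul],
      hgram _ _ (hrep1 o) (hrep1 o')]
    by_cases hoo : o = o'
    · subst hoo
      rw [if_pos rfl, if_pos rfl, if_neg (hrotne (hrep1 o)).1,
        if_neg (hrotne (hrep1 o)).2]
      push_cast
      ring
    · rw [if_neg hoo, if_neg fun e => hoo (hcl o o' (Or.inl e)),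
        if_neg fun e => hoo (hcl o o' (Or.inr (Or.inl e))),
        if_neg fun e => hoo (hcl o o' (Or.inr (Or.inr e)))]
      push_cast
      ring
  · refine mul_left_cancel₀ hq0 ?_
    rw [mul_zero, Finset.mul_sum, Finset.sum_subset (Finset.subset_univ Bf) fun χ _ hn => by
      rw [hoff χ (fun h' => hn ((hBf χ).2 h')), Int.cast_zero, zero_mul, mul_zero],
      Finset.sum_congr rfl fun χ _ => by rw [← mul_assoc, ← ha', Finset.sum_mul], Finset.sum_comm]
    refine Finset.sum_eq_zero fun w hw => ?_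
    calc _ = (1 - conj ((rep o) w : ℂ)) * conj (Γ w) *
          ∑ χ : IrrCharacter G, S.col hj w (χ : G → ℂ) * (χ : G → ℂ) 1 := by
          rw [Finset.mul_sum]
          exact Finset.sum_congr rfl fun χ _ => by simp only [h]; ring
      _ = 0 := by rw [S.sum_col_degree hj w, mul_zero]
  · by_contra hno
    push Not at hno
    have hall : ∀ ψ : D →* ℂˣ, a χ ψ = 0 := by
      intro ψ
      by_cases hψ : ψ = 1
      · rw [hψ, hone]
      · rcases hrep ψ hψ with he | he | he <;> rw [he]
        · exact hno _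
        · rw [hinv]; exact hno _
        · rw [hinv, hinv]; exact hno _
    haveI : Nontrivial D := Fintype.one_lt_card_iff_nontrivial.1 (by omega)
    obtain ⟨u, hu⟩ := exists_ne (1 : D)
    have hzero : ∑ ψ : D →* ℂˣ, (ψ u : ℂ) *
        ∑ w ∈ (Finset.univ : Finset D).erase 1, (1 - conj (ψ w : ℂ)) * h χ w = 0 :=
      Finset.sum_eq_zero fun ψ _ => by rw [ha', hall, Int.cast_zero, mul_zero, mul_zero]
    simp only [Finset.mul_sum] at hzero
    rw [Finset.sum_comm] at hzero
    have hin : ∀ w ∈ (Finset.univ : Finset D).erase 1,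
        ∑ ψ : D →* ℂˣ, (ψ u : ℂ) * ((1 - conj (ψ w : ℂ)) * h χ w) =
          if w = u then -((Nat.card D : ℂ) * h χ w) else 0 := by
      intro w _
      have e : ∀ ψ : D →* ℂˣ, (ψ u : ℂ) * ((1 - conj (ψ w : ℂ)) * h χ w) =
          ((ψ u : ℂ) - (ψ (u * w⁻¹) : ℂ)) * h χ w := fun ψ => by
        rw [conj_apply, MonoidHom.inv_apply, map_mul, map_inv, Units.val_mul]
        ring
      rw [Finset.sum_congr rfl fun ψ _ => e ψ, ← Finset.sum_mul, Finset.sum_sub_distrib,
        sum_dual_apply, sum_dual_apply, if_neg hu]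
      simp only [mul_inv_eq_one, eq_comm (a := u)]
      split_ifs <;> ring
    rw [Finset.sum_congr rfl hin, Finset.sum_ite_eq' _ u,
      if_pos (Finset.mem_erase.2 ⟨hu, Finset.mem_univ _⟩), neg_eq_zero, mul_eq_zero] at hzero
    rcases hzero with h0 | h0
    · exact Nat.cast_ne_zero.2 Nat.card_pos.ne' h0
    · rcases mul_eq_zero.1 h0 with h1 | h1
      · exact S.col_ne_zero hj hu ((hBf χ).1 hχ) h1
      · have := hΓ1 u hu
        rw [h1, mul_zero] at this
        exact zero_ne_one this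

/-- The invariants of the block. -/
theorem invariants : (Cfsg.blockRank 2 B = 1 ∧ Nat.card B = 4 ^ m) ∨
    (Cfsg.blockRank 2 B = 3 ∧ 3 * Nat.card B = 4 ^ m + 8) := by
  by_cases hT : stab ⊤ D eP ≤ Subgroup.centralizer (D : Set G)
  · left
    have hn := nilp_of_stab S.block S.max S.hab hT
    obtain ⟨hcard, ψ, hψ⟩ := exists_oneBrauer S.modular S.block S.max S.hab hn
    exact ⟨hψ.blockRank_eq, by rw [hψ.card, ← hcard, S.card]⟩
  · exact Or.inr (S.invariants_of_three hT)

end Setup

end CfsgLib.HomocyclicBlock
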