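import Cfsg.Agent.BlocksCharsC.TwoPowerCyclotomic
import Cfsg.Agent.BlocksFrobenius.Dual
import Cfsg.Agent.Characters.Generalized
import Cfsg.Agent.TwoClasses.Tools
import Mathlib.NumberTheory.Basic

/-!
# Removing odd integral factors from generalized characters of a 2-group

If generalized characters `A` and `N` have values `h w * n w` and `n w` at the non-identity
elements, the `n w` odd integers and the `h w` cyclotomic integers, then the pairings of `h` with
`1 - ψ` are rational integers divisible by the order of the group.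
-/

set_option autoImplicit false
set_option linter.style.haveILetI false
set_option linter.unusedSectionVars false

namespace CfsgLib.HomocyclicBlock

open CfsgLib.BlocksCharsC
open scoped ComplexConjugate

universe u

variable {A : Type u} [Group A] [Fintype A]

theorem isGen_pow {θ : A → ℂ} (h : Cfsg.IsGeneralizedCharacter A θ) (k : ℕ) :
    Cfsg.IsGeneralizedCharacter A (θ ^ k) := by
  induction k with
  | zero => exact Characters.isGen_one
  | succ k ih => rw [pow_succ]; exact Characters.isGen_mul ih h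

open Classical in
theorem exists_int_of_gen {d : ℕ} (hcard : Fintype.card A = 2 * 2 ^ d) {ζ : ℂ}
    (hζ : IsPrimitiveRoot ζ (2 * 2 ^ d)) (ψ : A →* ℂˣ) {F N : A → ℂ}
    (hF : Cfsg.IsGeneralizedCharacter A F) (hN : Cfsg.IsGeneralizedCharacter A N) (h : A → ℂ)
    (n : A → ℤ) (hn : ∀ w, w ≠ 1 → N w = n w) (hodd : ∀ w, w ≠ 1 → ¬ 2 ∣ n w)
    (hFw : ∀ w, w ≠ 1 → F w = h w * n w) (hh : ∀ w, w ≠ 1 → h w ∈ cyRing ζ) :
    ∃ a : ℤ, ∑ w ∈ Finset.univ.erase (1 : A), (1 - conj (ψ w : ℂ)) * h w =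
      (Fintype.card A : ℂ) * a := by
  have hψ : ∀ w : A, conj (ψ w : ℂ) ∈ cyRing ζ := fun w => by
    haveI : NeZero (2 * 2 ^ d) := ⟨by positivity⟩
    refine conj_mem_cyRing hζ ?_
    obtain ⟨i, -, hi⟩ := hζ.eq_pow_of_pow_eq_one (ξ := (ψ w : ℂ)) (by
      rw [← Units.val_pow_eq_pow_val, ← map_pow, ← hcard, pow_card_eq_one, map_one, Units.val_one])
    exact hi ▸ cy_pow_mem i
  set c : A → ℂ := fun w => (1 - conj (ψ w : ℂ)) * h w with hc
  have hcmem : ∀ w ∈ Finset.univ.erase (1 : A), c w ∈ cyRing ζ := fun w hw =>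
    mul_mem (sub_mem (one_mem _) (hψ w)) (hh w (Finset.ne_of_mem_erase hw))
  obtain ⟨v, hv⟩ := exists_cyVal hζ (Subring.sum_mem _ hcmem)
  set i0 : Fin (2 ^ d) := ⟨0, Nat.two_pow_pos d⟩
  -- the coordinates modulo every power of two
  have key : ∀ L : ℕ, ∃ (z : ℤ) (b : Fin (2 ^ d) → ℤ), ∀ i,
      v i + (2 : ℤ) ^ (L + 1) * b i = if i = i0 then (Fintype.card A : ℤ) * z else 0 := by
    intro L
    obtain ⟨k, hk⟩ : ∃ k, 2 ^ L = k + 1 := ⟨2 ^ L - 1, (Nat.sub_add_cancel (Nat.two_pow_pos L)).symm⟩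
    have hθ := Characters.isGen_mul hF (isGen_pow hN k)
    obtain ⟨z1, hz1⟩ := Characters.classInner_gen hθ (Characters.isGen_one (G := A))
    obtain ⟨z2, hz2⟩ := Characters.classInner_gen hθ
      (Characters.isGen_of_isIrr (TwoClasses.isIrr_linear ψ))
    have hdvd : ∀ w, ∃ r : ℤ, w ≠ 1 → n w ^ 2 ^ L = 1 + (2 : ℤ) ^ (L + 1) * r := fun w => by
      by_cases hw : w = 1
      · exact ⟨0, fun h' => absurd hw h'⟩
      have h2 : ((2 : ℕ) : ℤ) ∣ n w - 1 := by
        have := hodd w hw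
        push_cast
        omega
      obtain ⟨r, hr⟩ := dvd_sub_pow_of_dvd_sub h2 L
      refine ⟨r, fun _ => ?_⟩
      rw [one_pow] at hr
      push_cast at hr
      linarith
    choose r hr using hdvd
    have hbmem : ∑ w ∈ Finset.univ.erase (1 : A), c w * (r w : ℂ) ∈ cyRing ζ :=
      Subring.sum_mem _ fun w hw => mul_mem (hcmem w hw) (intCast_mem _ _)
    obtain ⟨b, hb⟩ := exists_cyVal hζ hbmem
    refine ⟨z1 - z2, b, fun i => ?_⟩
    have hsum : cyVal ζ (v + fun i => (2 : ℤ) ^ (L + 1) * b i) =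
        cyVal ζ (Pi.single i0 ((Fintype.card A : ℤ) * (z1 - z2))) := by
      rw [cyVal_add, cyVal_smul, ← hv, ← hb, cyVal_single, pow_zero, mul_one, Int.cast_mul,
        Int.cast_sub, ← hz1, ← hz2, Finset.mul_sum, ← Finset.sum_add_distrib]
      simp only [Cfsg.classInner, map_one, mul_one, ← mul_sub, ← Finset.sum_sub_distrib,
        Nat.card_eq_fintype_card, Int.cast_natCast]
      rw [← mul_assoc, mul_inv_cancel₀ (Nat.cast_ne_zero.2 Fintype.card_ne_zero), one_mul]
      refine Eq.trans ?_ (Finset.sum_erase (a := (1 : A)) _ (by simp))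
      refine Finset.sum_congr rfl fun w hw => ?_
      have hw1 := Finset.ne_of_mem_erase hw
      have hr' : (n w : ℂ) ^ 2 ^ L = 1 + (2 : ℂ) ^ (L + 1) * (r w : ℂ) := by
        exact_mod_cast congrArg (fun x : ℤ => (x : ℂ)) (hr w hw1)
      simp only [Pi.mul_apply, Pi.pow_apply, hFw w hw1, hn w hw1, hc]
      push_cast
      rw [hk, pow_succ] at hr'
      linear_combination ((conj (ψ w : ℂ)) * h w - h w) * hr'
    have := congrFun (cyVal_injective hζ hsum) i
    simpa [Pi.single_apply] using this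
  have hzero : ∀ i, i ≠ i0 → v i = 0 := by
    intro i hi
    by_contra hne
    obtain ⟨z, b, hzb⟩ := key (v i).natAbs
    have h1 := hzb i
    rw [if_neg hi] at h1
    have h2 : (2 : ℤ) ^ ((v i).natAbs + 1) ∣ v i := ⟨-b i, by linarith⟩
    have h3 := Nat.le_of_dvd (Int.natAbs_pos.2 hne) (Int.natAbs_dvd_natAbs.2 h2)
    rw [Int.natAbs_pow] at h3
    have h4 : (v i).natAbs + 1 < 2 ^ ((v i).natAbs + 1) := Nat.lt_two_pow_self
    have h5 : Int.natAbs 2 = 2 := rfl
    rw [h5] at h3
    omega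
  obtain ⟨a, ha⟩ : (Fintype.card A : ℤ) ∣ v i0 := by
    obtain ⟨z, b, hzb⟩ := key d
    have h1 := hzb i0
    rw [if_pos rfl] at h1
    refine ⟨z - b i0, ?_⟩
    rw [hcard] at h1 ⊢
    push_cast at h1 ⊢
    rw [pow_succ'] at h1
    linarith
  refine ⟨a, ?_⟩
  rw [hv, cyVal, Finset.sum_eq_single i0 (fun i _ hi => by rw [hzero i hi, Int.cast_zero, zero_mul])
    (by simp), ha, pow_zero, mul_one, Int.cast_mul, Int.cast_natCast]

end CfsgLib.HomocyclicBlock
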