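import Cfsg.Agent.HomocyclicBlock.Column
import Cfsg.Agent.HomocyclicBlock.Integral

/-!
# Generalized characters that remove the factors of the columns

`exists_glue`: a cyclotomic unit function `Γ` on the non-identity elements, invariant under the
automorphism of order three, such that every column times `conj Γ` is, up to one generalized
character with odd integral values, the restriction of a generalized character of `D`.
-/

set_option autoImplicit false
set_option linter.unusedSectionVars false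
set_option linter.style.haveILetI false
set_option maxHeartbeats 800000

namespace CfsgLib.HomocyclicBlock

open Cfsg CfsgLib.BlockPairs CfsgLib.Star CfsgLib.InertialQuotient
open CfsgLib.Blocks (Res)
open CfsgLib.BlocksCharsC (cyRing)
open scoped ComplexConjugate

universe u

theorem not_two_dvd_mul {a b : ℕ} (ha : ¬ 2 ∣ a) (hb : ¬ 2 ∣ b) : ¬ 2 ∣ a * b :=
  fun h => (Nat.prime_two.dvd_mul.1 h).elim ha hb

theorem not_two_dvd_pow {a : ℕ} (ha : ¬ 2 ∣ a) (k : ℕ) : ¬ 2 ∣ a ^ k :=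
  fun h => ha (Nat.prime_two.dvd_of_dvd_pow h)

variable {G : Type u} [Group G] [Fintype G] [∀ H : Subgroup G, Fintype H] {M : Ideal AlgInt}
  [M.IsPrime] [CharP (Res M) 2] [IsAlgClosed (Res M)]
  {B : Set (IrrCharacter G)} {D : Subgroup G} {eP : GA (Res M) G} {m : ℕ}

namespace Setup

variable (S : Setup M B D eP m)

include S

theorem four_pow_eq : 4 ^ m = 2 * 2 ^ (2 * m - 1) := by
  have := S.two_le
  rw [show (4 : ℕ) = 2 ^ 2 from rfl, ← pow_mul, ← pow_succ']
  congr 1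
  omega

/-- Two involutions generate all the involutions. -/
theorem invol_mem_sup {t u c : D} (ht : t ^ 2 = 1) (hu : u ^ 2 = 1) (ht1 : t ≠ 1) (hu1 : u ≠ 1)
    (hne : t ≠ u) (hc : c ^ 2 = 1) :
    (c : G) ∈ Subgroup.zpowers (t : G) ⊔ Subgroup.zpowers (u : G) := by
  have h1 : (t : G) ∈ Subgroup.zpowers (t : G) ⊔ Subgroup.zpowers (u : G) :=
    (le_sup_left : Subgroup.zpowers (t : G) ≤ _) (Subgroup.mem_zpowers _)
  have h2 : (u : G) ∈ Subgroup.zpowers (t : G) ⊔ Subgroup.zpowers (u : G) :=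
    (le_sup_right : Subgroup.zpowers (u : G) ≤ _) (Subgroup.mem_zpowers _)
  rcases sq_one_cases S.comm S.card_invol ht hu ht1 hu1 hne hc with rfl | rfl | rfl | rfl
  · exact one_mem _
  · exact h1
  · exact h2
  · exact mul_mem h1 h2

theorem sup_invol_eq {t u a b : D} (ht : t ^ 2 = 1) (hu : u ^ 2 = 1) (ht1 : t ≠ 1) (hu1 : u ≠ 1)
    (hne : t ≠ u) (ha : a ^ 2 = 1) (hb : b ^ 2 = 1) (ha1 : a ≠ 1) (hb1 : b ≠ 1) (hab : a ≠ b) :
    Subgroup.zpowers (t : G) ⊔ Subgroup.zpowers (u : G) =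
      Subgroup.zpowers (a : G) ⊔ Subgroup.zpowers (b : G) :=
  le_antisymm
    (sup_le (Subgroup.zpowers_le.2 (S.invol_mem_sup ha hb ha1 hb1 hab ht))
      (Subgroup.zpowers_le.2 (S.invol_mem_sup ha hb ha1 hb1 hab hu)))
    (sup_le (Subgroup.zpowers_le.2 (S.invol_mem_sup ht hu ht1 hu1 hne ha))
      (Subgroup.zpowers_le.2 (S.invol_mem_sup ht hu ht1 hu1 hne hb)))

variable {j : GA (Res M) G} (hj : Lead D eP j)

include hj

/-- The first product and the auxiliary character. -/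
theorem exists_base {ζ : ℂ} (hζ : IsPrimitiveRoot ζ (4 ^ m)) :
    ∃ (P O : D → ℂ) (c : D → ℂ) (Mw : D → ℕ),
      Cfsg.IsGeneralizedCharacter D P ∧ Cfsg.IsGeneralizedCharacter D O ∧
      ∀ w : D, w ≠ 1 → c w * conj (c w) = 1 ∧ c w ∈ cyRing ζ ∧ ¬ 2 ∣ Mw w ∧
        P w = c w * S.mu hj (Subgroup.zpowers (w : G)) * Mw w ∧
        (O w * conj (O w)) * (O w * conj (O w)) = (Mw w : ℂ) := by
  obtain ⟨a, ha, ha1, -⟩ := exists_other (a := (1 : D)) S.card_invol
  obtain ⟨b, hb, hb1, hab⟩ := exists_other (a := a) S.card_invol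
  have hc : (a * b) ^ 2 = 1 := by rw [Commute.mul_pow (S.comm a b), ha, hb, mul_one]
  have hc1 : a * b ≠ 1 := fun h => hab (by
    rw [mul_eq_one_iff_eq_inv] at h
    rw [h]
    exact (eq_inv_of_mul_eq_one_left (by rwa [pow_two] at hb)).symm)
  have hac : a ≠ a * b := fun h => hb1 (mul_eq_left.1 h.symm)
  have hbc : b ≠ a * b := fun h => ha1 (mul_eq_right.1 h.symm)
  have hzne : ∀ {t : D}, t ≠ 1 → Subgroup.zpowers (t : G) ≠ ⊥ := fun h => S.zpowers_ne_bot h
  set Ω := Subgroup.zpowers (a : G) ⊔ Subgroup.zpowers (b : G) with hΩ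
  have hΩD : Ω ≤ D := sup_le (S.zpowers_le a) (S.zpowers_le b)
  have hΩ1 : Ω ≠ ⊥ := S.sup_zpowers_ne_bot hj (hzne ha1) _
  set Ga := S.gen hj (S.zpowers_le a) (hzne ha1) with hGa
  set Gb := S.gen hj (S.zpowers_le b) (hzne hb1) with hGb
  set Gc := S.gen hj (S.zpowers_le (a * b)) (hzne hc1) with hGc
  set O := S.gen hj hΩD hΩ1 with hO
  have hOgen := S.isGen_gen hj hΩD hΩ1
  have hPgen : Cfsg.IsGeneralizedCharacter D
      (Ga * Gb * Gc * ((fun w => conj (O w)) * fun w => conj (O w))) :=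
    Characters.isGen_mul (Characters.isGen_mul (Characters.isGen_mul
      (S.isGen_gen hj _ _) (S.isGen_gen hj _ _)) (S.isGen_gen hj _ _))
      (Characters.isGen_mul (Characters.isGen_conj hOgen) (Characters.isGen_conj hOgen))
  choose ca ca1 ca2 hca using fun w : D => S.gen_apply hj (S.zpowers_le a) (hzne ha1) hζ w
  choose cb cb1 cb2 hcb using fun w : D => S.gen_apply hj (S.zpowers_le b) (hzne hb1) hζ w
  choose cc cc1 cc2 hcc using fun w : D =>
    S.gen_apply hj (S.zpowers_le (a * b)) (hzne hc1) hζ w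
  choose co co1 co2 hco using fun w : D => S.gen_apply hj hΩD hΩ1 hζ w
  let nO : D → ℕ := fun w => S.mu hj (Ω ⊔ Subgroup.zpowers (w : G))
  refine ⟨_, O, fun w => ca w * cb w * cc w * (conj (co w) * conj (co w)), fun w => nO w ^ 4,
    hPgen, hOgen, fun w hw => ⟨?_, ?_, ?_, ?_, ?_⟩⟩
  · simp only [map_mul, Complex.conj_conj]
    calc _ = (ca w * conj (ca w)) * (cb w * conj (cb w)) * (cc w * conj (cc w)) *
          ((co w * conj (co w)) * (co w * conj (co w))) := by ring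
      _ = 1 := by rw [ca1, cb1, cc1, co1]; norm_num
  · rw [S.four_pow_eq] at hζ
    exact mul_mem (mul_mem (mul_mem (ca2 w) (cb2 w)) (cc2 w))
      (mul_mem (BlocksCharsC.conj_mem_cyRing hζ (co2 w)) (BlocksCharsC.conj_mem_cyRing hζ (co2 w)))
  · exact not_two_dvd_pow (S.odd_mu hj _ (sup_le hΩD (S.zpowers_le w))
      (S.sup_zpowers_ne_bot hj hΩ1 _)) 4
  · -- exactly one of the three cyclic subgroups is absorbed
    obtain ⟨k, hk2, hk1⟩ := exists_invol (w := w)
      (by simpa [Subgroup.orderOf_coe] using S.pElem w.2) hw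
    have hle : Subgroup.zpowers ((w ^ k : D) : G) ≤ Subgroup.zpowers (w : G) :=
      Subgroup.zpowers_le.2 (by
        rw [SubgroupClass.coe_pow]; exact pow_mem (Subgroup.mem_zpowers _) k)
    have hin : ∀ t : D, t = w ^ k →
        Subgroup.zpowers (t : G) ⊔ Subgroup.zpowers (w : G) = Subgroup.zpowers (w : G) :=
      fun t ht => sup_eq_right.2 (ht ▸ hle)
    have hout : ∀ t : D, t ^ 2 = 1 → t ≠ 1 → t ≠ w ^ k →
        Subgroup.zpowers (t : G) ⊔ Subgroup.zpowers (w : G) = Ω ⊔ Subgroup.zpowers (w : G) := by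
      intro t ht ht1 hne
      rw [hΩ, ← S.sup_invol_eq ht hk2 ht1 hk1 hne ha hb ha1 hb1 hab, sup_assoc, sup_eq_right.2 hle]
    simp only [hGa, hGb, hGc, hO, nO, Pi.mul_apply, hca, hcb, hcc, hco, map_mul, Complex.conj_natCast]
    rcases sq_one_cases S.comm S.card_invol ha hb ha1 hb1 hab hk2 with h | h | h | h
    · exact absurd h hk1
    · rw [hin a h.symm, hout b hb hb1 (fun e => hab (h.symm.trans e.symm)),
        hout (a * b) hc hc1 (fun e => hac (h.symm.trans e.symm))]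
      push_cast
      ring
    · rw [hin b h.symm, hout a ha ha1 (fun e => hab (e.trans h)),
        hout (a * b) hc hc1 (fun e => hbc (h.symm.trans e.symm))]
      push_cast
      ring
    · rw [hin (a * b) h.symm, hout a ha ha1 (fun e => hac (e.trans h)),
        hout b hb hb1 (fun e => hbc (e.trans h))]
      push_cast
      ring
  · have h : O w * conj (O w) = (nO w : ℂ) * nO w := by
      simp only [hO, hco, map_mul, Complex.conj_natCast]
      calc _ = (co w * conj (co w)) * ((nO w : ℂ) * nO w) := by ring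
        _ = _ := by rw [co1, one_mul]
    rw [h]
    push_cast
    ring

open Classical in
/-- The unit function and the coefficients. -/
theorem exists_glue {σ : MulAut D} (h3 : ∀ a, σ (σ (σ a)) = a) {t₀ : G}
    (ht₀ : t₀ ∈ stab ⊤ D eP) (hσt : ∀ a : D, ((σ a : D) : G) = t₀ * a * t₀⁻¹) :
    ∃ Γ : D → ℂ, (∀ w, w ≠ 1 → Γ w * conj (Γ w) = 1) ∧ (∀ w, w ≠ 1 → Γ (σ w) = Γ w) ∧
      ∀ (χ : IrrCharacter G) (ψ : D →* ℂˣ), ∃ a : ℤ,
        ∑ w ∈ (Finset.univ : Finset D).erase 1,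
          (1 - conj (ψ w : ℂ)) * (S.col hj w (χ : G → ℂ) * conj (Γ w)) =
          (Fintype.card D : ℂ) * a := by
  classical
  have hne0 : 4 ^ m ≠ 0 := by positivity
  obtain ⟨ζ, hζ⟩ : ∃ ζ : ℂ, IsPrimitiveRoot ζ (4 ^ m) :=
    ⟨_, Complex.isPrimitiveRoot_exp (4 ^ m) hne0⟩
  obtain ⟨P, O, c, Mw, hP, hO, hval⟩ := S.exists_base hj hζ
  choose hc1 hc2 hMw hPw hOw using hval
  have hσ1 : ∀ {w : D}, w ≠ 1 → σ w ≠ 1 := fun hw h => hw (σ.injective (h.trans (map_one σ).symm))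
  have hμ : ∀ {w : D}, w ≠ 1 → S.mu hj (Subgroup.zpowers ((σ w : D) : G)) =
      S.mu hj (Subgroup.zpowers (w : G)) := fun {w} hw =>
    S.mu_conj hj hw (hσ1 hw) ht₀ (hσt w).symm
  let μw : D → ℕ := fun w => S.mu hj (Subgroup.zpowers (w : G))
  let Γ : D → ℂ := fun w => c w * c (σ w) * c (σ (σ w))
  let P1 : D → ℂ := fun w => P (σ w)
  let P2 : D → ℂ := fun w => P (σ (σ w))
  let O1 : D → ℂ := fun w => O (σ w)
  let O2 : D → ℂ := fun w => O (σ (σ w))
  let nrm : (D → ℂ) → D → ℂ := fun f => f * fun w => conj (f w)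
  have hnrm : ∀ {f : D → ℂ}, Cfsg.IsGeneralizedCharacter D f →
      Cfsg.IsGeneralizedCharacter D (nrm f) := fun hf =>
    Characters.isGen_mul hf (Characters.isGen_conj hf)
  have hP1 : Cfsg.IsGeneralizedCharacter D P1 := Characters.isGen_comp σ.toMonoidHom hP
  have hP2 : Cfsg.IsGeneralizedCharacter D P2 := Characters.isGen_comp σ.toMonoidHom hP1
  have hO1 : Cfsg.IsGeneralizedCharacter D O1 := Characters.isGen_comp σ.toMonoidHom hO
  have hO2 : Cfsg.IsGeneralizedCharacter D O2 := Characters.isGen_comp σ.toMonoidHom hO1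
  let N : D → ℂ := nrm P * nrm P1 * nrm P2 * (nrm O * nrm O)
  have hN : Cfsg.IsGeneralizedCharacter D N :=
    Characters.isGen_mul (Characters.isGen_mul (Characters.isGen_mul (hnrm hP) (hnrm hP1)) (hnrm hP2))
      (Characters.isGen_mul (hnrm hO) (hnrm hO))
  let n : D → ℕ := fun w =>
    μw w ^ 6 * Mw w ^ 3 * Mw (σ w) ^ 2 * Mw (σ (σ w)) ^ 2
  have hcm : ∀ {w : D} (hw : w ≠ 1), Γ w * conj (Γ w) = 1 := fun {w} hw => by
    simp only [Γ, map_mul]
    calc _ = (c w * conj (c w)) * (c (σ w) * conj (c (σ w))) *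
          (c (σ (σ w)) * conj (c (σ (σ w)))) := by ring
      _ = 1 := by rw [hc1 w hw, hc1 _ (hσ1 hw), hc1 _ (hσ1 (hσ1 hw))]; norm_num
  refine ⟨Γ, fun w hw => hcm hw, fun w _ => ?_, fun χ ψ => ?_⟩
  · simp only [Γ, h3]
    ring
  have hχ := Characters.isCharacter_of_isIrr χ.2
  let F : D → ℂ := trD (M := M) (D := D) (j := j) (χ : G → ℂ) *
    (((fun w => conj (P w)) * (fun w => conj (P1 w))) * fun w => conj (P2 w)) *
      (nrm P * ((nrm O1 * nrm O1) * (nrm O2 * nrm O2)))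
  have hF : Cfsg.IsGeneralizedCharacter D F :=
    Characters.isGen_mul (Characters.isGen_mul (S.isGen_trD hj hχ)
      (Characters.isGen_mul (Characters.isGen_mul (Characters.isGen_conj hP)
        (Characters.isGen_conj hP1)) (Characters.isGen_conj hP2)))
      (Characters.isGen_mul (hnrm hP) (Characters.isGen_mul (Characters.isGen_mul (hnrm hO1) (hnrm hO1))
        (Characters.isGen_mul (hnrm hO2) (hnrm hO2))))
  have hcard : Fintype.card D = 2 * 2 ^ (2 * m - 1) := by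
    rw [← Nat.card_eq_fintype_card, S.card, S.four_pow_eq]
  have hζ' : IsPrimitiveRoot ζ (2 * 2 ^ (2 * m - 1)) := by rwa [← S.four_pow_eq]
  refine Exists.imp (fun a ha => Eq.trans (Finset.sum_congr (by ext; simp) fun _ _ => rfl) ha)
    (exists_int_of_gen hcard hζ' ψ hF hN (fun w => S.col hj w (χ : G → ℂ) * conj (Γ w))
    (fun w => (n w : ℤ)) (fun w hw => ?_) (fun w hw => ?_) (fun w hw => ?_) fun w hw => ?_)
  · have h1 := hσ1 hw
    have h2 := hσ1 h1
    have e0 : P w * conj (P w) = (μw w : ℂ) ^ 2 * (Mw w : ℂ) ^ 2 := by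
      rw [hPw w hw, map_mul, map_mul, Complex.conj_natCast, Complex.conj_natCast]
      calc _ = (c w * conj (c w)) * ((μw w : ℂ) ^ 2 * (Mw w : ℂ) ^ 2) := by ring
        _ = _ := by rw [hc1 w hw, one_mul]
    have e1 : P1 w * conj (P1 w) = (μw w : ℂ) ^ 2 * (Mw (σ w) : ℂ) ^ 2 := by
      simp only [P1]
      rw [hPw _ h1, map_mul, map_mul, Complex.conj_natCast, Complex.conj_natCast, hμ hw]
      calc _ = (c (σ w) * conj (c (σ w))) * ((μw w : ℂ) ^ 2 * (Mw (σ w) : ℂ) ^ 2) := by ring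
        _ = _ := by rw [hc1 _ h1, one_mul]
    have e2 : P2 w * conj (P2 w) = (μw w : ℂ) ^ 2 * (Mw (σ (σ w)) : ℂ) ^ 2 := by
      simp only [P2]
      rw [hPw _ h2, map_mul, map_mul, Complex.conj_natCast, Complex.conj_natCast, hμ h1, hμ hw]
      calc _ = (c (σ (σ w)) * conj (c (σ (σ w)))) *
            ((μw w : ℂ) ^ 2 * (Mw (σ (σ w)) : ℂ) ^ 2) := by ring
        _ = _ := by rw [hc1 _ h2, one_mul]
    simp only [N, nrm, Pi.mul_apply, e0, e1, e2, hOw w hw, n]
    push_cast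
    ring
  · refine fun hd => ?_
    have h1 := hσ1 hw
    have h2 := hσ1 h1
    refine not_two_dvd_mul (not_two_dvd_mul (not_two_dvd_mul
      (not_two_dvd_pow (S.odd_mu hj _ (S.zpowers_le w) (S.zpowers_ne_bot hw)) 6)
      (not_two_dvd_pow (hMw w hw) 3)) (not_two_dvd_pow (hMw _ h1) 2))
      (not_two_dvd_pow (hMw _ h2) 2) ?_
    exact Int.natCast_dvd_natCast.1 hd
  · have h1 := hσ1 hw
    have h2 := hσ1 h1
    have e0 : P w * conj (P w) = (μw w : ℂ) ^ 2 * (Mw w : ℂ) ^ 2 := by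
      rw [hPw w hw, map_mul, map_mul, Complex.conj_natCast, Complex.conj_natCast]
      calc _ = (c w * conj (c w)) * ((μw w : ℂ) ^ 2 * (Mw w : ℂ) ^ 2) := by ring
        _ = _ := by rw [hc1 w hw, one_mul]
    simp only [F, nrm, Pi.mul_apply, e0, P1, P2, O1, O2, hOw _ h1, hOw _ h2,
      S.trD_eq hj hw (Characters.isClassFunction_of_isCharacter hχ), hPw w hw, hPw _ h1, hPw _ h2,
      hμ h1, hμ hw, map_mul, Complex.conj_natCast, n, Γ, μw]
    have e1 : c w * conj (c w) = 1 := hc1 w hw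
    push_cast
    linear_combination (S.col hj w (χ : G → ℂ) * (conj (c w) * conj (c (σ w)) * conj (c (σ (σ w)))) *
      (S.mu hj (Subgroup.zpowers (w : G)) : ℂ) ^ 6 * (Mw w : ℂ) ^ 3 * (Mw (σ w) : ℂ) ^ 2 *
        (Mw (σ (σ w)) : ℂ) ^ 2) * e1
  · refine mul_mem (S.col_mem hj hζ w hχ) (BlocksCharsC.conj_mem_cyRing hζ' ?_)
    exact mul_mem (mul_mem (hc2 w hw) (hc2 _ (hσ1 hw))) (hc2 _ (hσ1 (hσ1 hw)))

end Setup

end CfsgLib.HomocyclicBlock
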