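import Cfsg.Agent.HomocyclicBlock.Nilpotent
import Cfsg.Agent.BlockPairs.EmbModel
import Cfsg.Agent.BlocksCharsC.CliffordInvariant
import Cfsg.Agent.BlocksCharsC.TwoPowerCyclotomic

/-!
# Traces through a block with one Brauer character of the centralizer of a p-element

`φ : H →* G` identifies `H` with the centralizer of `x = φ z`. For a block `f` of `H` with one
Brauer character `ψ` the trace of an idempotent below `f` at `x` is the product of the column value
`colv φ z f χ` and the trace of `ψ` at `1`.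
-/

set_option autoImplicit false
set_option linter.unusedSectionVars false
set_option linter.style.haveILetI false

namespace CfsgLib.HomocyclicBlock

open Cfsg CfsgLib.BlockPairs CfsgLib.Star
open CfsgLib.Blocks (localRing red Res setIdemO isBlockUnion_of_isPBlock memLocalRing_blockCoeff)
open CfsgLib.BlockPairing (regInner)
open scoped ComplexConjugate

universe u

variable {G : Type u} [Group G] [Fintype G] {M : Ideal AlgInt} [M.IsPrime] {p : ℕ}
  [hp : Fact p.Prime] {H : Type u} [Group H] [Fintype H]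

/-- `φ` identifies `H` with the centralizer of `x`, the image of `z`. -/
structure CentMap (x : G) (φ : H →* G) (z : H) : Prop where
  inj : Function.Injective φ
  range_eq : φ.range = Subgroup.centralizer ({x} : Set G)
  map_z : φ z = x

/-- The column value of `χ` at `φ z` in the block `f` of `H`. -/
noncomputable def colv (φ : H →* G) (z : H) (f : Set (IrrCharacter H)) (χ : G → ℂ) : ℂ :=
  ∑ ξ ∈ f.toFinite.toFinset, Cfsg.classInner (fun h => χ (φ (z * h))) (ξ : H → ℂ)

namespace CentMap

variable {x : G} {φ : H →* G} {z : H} (hc : CentMap x φ z)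

include hc

theorem central (h : H) : z * h = h * z :=
  hc.inj (by
    rw [map_mul, map_mul, hc.map_z]
    exact (Subgroup.mem_centralizer_singleton_iff.1
      (hc.range_eq ▸ ⟨h, rfl⟩ : φ h ∈ Subgroup.centralizer ({x} : Set G))).symm)

theorem mem_center : z ∈ Subgroup.center H :=
  Subgroup.mem_center_iff.2 fun h => (hc.central h).symm

theorem conjA_emb_eq (a : GA (Res M) H) : conjA (Res M) x (emb φ a) = emb φ a := by
  rw [← hc.map_z, conjA_emb hc.inj]
  congr 1
  refine ga_ext fun h => ?_
  rw [conjA_coeff, mul_assoc, ← hc.central h, inv_mul_cancel_left]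

theorem isSupp_emb (a : GA (Res M) H) :
    IsSupp (Subgroup.centralizer ({x} : Set G)) (emb φ a) := fun g hg => by
  rw [← hc.range_eq]
  by_contra h
  exact hg (emb_coeff_not_mem φ a h)

theorem br_emb_eq (a : GA (Res M) H) : br (Subgroup.zpowers x) (emb φ a) = emb φ a := by
  refine br_eq_self ?_
  have h := hc.isSupp_emb a
  rwa [← cent_zpowers, cent_top] at h

theorem translate_isClassFunction {χ : G → ℂ} (hχ : Cfsg.IsClassFunction G χ) :
    Cfsg.IsClassFunction H fun h => χ (φ (z * h)) := fun a b => by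
  show χ (φ (z * _)) = χ (φ (z * _))
  rw [← mul_assoc, ← mul_assoc, hc.central b, mul_assoc b, map_mul, map_mul, map_inv]
  exact hχ _ _

/-- A trace of a pushed lift. -/
theorem tau_map (χ : G → ℂ) (A : MonoidAlgebra (localRing M) H) :
    tau M χ (MonoidAlgebra.single x 1 * MonoidAlgebra.mapDomainRingHom (localRing M) φ A) =
      tau M (fun h => χ (φ (z * h))) A := by
  classical
  rw [tau_single_mul, tau_apply, ← Finset.sum_subset (Finset.subset_univ
      (Finset.univ.map ⟨φ, hc.inj⟩)) (fun g _ hg => ?_), Finset.sum_map]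
  · refine Finset.sum_congr rfl fun h _ => ?_
    rw [Function.Embedding.coeFn_mk, map_mul, hc.map_z]
    congr 2
    exact Finsupp.mapDomain_apply hc.inj A.coeff h
  · rw [show (MonoidAlgebra.mapDomainRingHom (localRing M) φ A).coeff g = 0 from
      Finsupp.mapDomain_of_notMem_range A.coeff g fun ⟨h, hh⟩ =>
        hg (Finset.mem_map.2 ⟨h, Finset.mem_univ _, hh⟩)]
    simp

omit [Fintype G] [Fintype H] hc in
theorem rho_map (hinj : Function.Injective φ) (A : MonoidAlgebra (localRing M) H) :
    rho M G (MonoidAlgebra.mapDomainRingHom (localRing M) φ A) = emb φ (rho M H A) := by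
  refine ga_ext fun g => ?_
  rw [rho_coeff]
  by_cases hg : g ∈ φ.range
  · obtain ⟨h, rfl⟩ := hg
    rw [emb_coeff_apply hinj, rho_coeff]
    congr 1
    exact Finsupp.mapDomain_apply hinj A.coeff h
  · rw [emb_coeff_not_mem φ _ hg,
      show (MonoidAlgebra.mapDomainRingHom (localRing M) φ A).coeff g = 0 from
        Finsupp.mapDomain_of_notMem_range A.coeff g fun ⟨h, hh⟩ => hg ⟨h, hh⟩, map_zero]

omit hc in
theorem tau_sum {χ : H → ℂ} (hχ : Cfsg.IsClassFunction H χ) (A : MonoidAlgebra (localRing M) H) :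
    tau M χ A =
      ∑ ξ : IrrCharacter H, Cfsg.classInner χ (ξ : H → ℂ) * tau M (ξ : H → ℂ) A := by
  simp only [tau_apply, Finset.mul_sum]
  rw [Finset.sum_comm]
  refine Finset.sum_congr rfl fun h _ => ?_
  have e := congrFun (Characters.classFunction_expansion hχ) h
  simp only [Finset.sum_apply, Pi.smul_apply, smul_eq_mul] at e
  conv_lhs => rw [e]
  rw [Finset.mul_sum]
  exact Finset.sum_congr rfl fun ξ _ => by ring

omit hc in
theorem tau_eq_T_of_agree (hM : Cfsg.IsPModular p M) {f : Set (IrrCharacter H)}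
    {ψ : IrrCharacter H} (hf : OneBrauer p M f ψ) {a : GA (Res M) H} (ha : a * a = a)
    {E : MonoidAlgebra (localRing M) H} (hE : E * E = E) (hEa : rho M H E = a)
    (hfa : gblk M f * a = a) (ξ : IrrCharacter H) [Decidable (ξ ∈ f)] :
    tau M (ξ : H → ℂ) E = if ξ ∈ f then T M (ψ : H → ℂ) 1 a else 0 := by
  classical
  have h1 : ∀ A : MonoidAlgebra (localRing M) H,
      Commute (MonoidAlgebra.single (1 : H) (1 : localRing M)) A := fun A => by
    rw [← MonoidAlgebra.one_def]; exact Commute.one_left _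
  have hu := isBlockUnion_of_isPBlock hf.block
  set F : MonoidAlgebra (localRing M) H :=
    (setIdemO M f (memLocalRing_blockCoeff hu) : MonoidAlgebra (localRing M) H) with hF
  have hFc : ∀ w, Commute F w := fun w =>
    (Subring.mem_center_iff.1 (setIdemO M f (memLocalRing_blockCoeff hu)).2 w).symm
  have hFF : F * F = F := by
    rw [hF, ← Subring.coe_mul]
    congr 1
    exact CfsgLib.Blocks.ctr_ext_omegaO fun φ => by
      rw [map_mul, CfsgLib.Blocks.omegaO_setIdemO]; split_ifs <;> simp
  have hidem : F * E * (F * E) = F * E := by rw [(hFc E).symm.mul_mul_mul_comm, hFF, hE]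
  split_ifs with hξ
  · rw [T_eq (Characters.isClassFunction_of_isIrr ψ.2) hE ⟨h1 _, hEa⟩, ← MonoidAlgebra.one_def,
      one_mul, tau_apply, tau_apply, ← sub_eq_zero, ← Finset.sum_sub_distrib]
    simp only [← mul_sub]
    exact BlocksLocal.sum_coeff_mul_eq_zero_of_idempotent hM E hE
      (fun h => (ξ : H → ℂ) h - (ψ : H → ℂ) h)
      (fun g h => by
        rw [Characters.isClassFunction_of_isIrr ξ.2 g h, Characters.isClassFunction_of_isIrr ψ.2 g h])
      fun g hg => by rw [hf.agree ξ hξ g hg, sub_self]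
  · have h2 := tau_eq_of_rho_eq (Characters.isClassFunction_of_isIrr ξ.2) (z := (1 : H)) hE hidem
      (h1 _) (h1 _) (by rw [map_mul, hEa, hF, gblk_eq hu, hfa])
    rw [← MonoidAlgebra.one_def, one_mul, one_mul] at h2
    rw [h2, hF, tau_mul_setIdemO ξ hu, if_neg hξ]

/-- The trace at `x` of an idempotent below the block factors. -/
theorem T_factor (hM : Cfsg.IsPModular p M) (hx : ∃ k, orderOf x = p ^ k)
    {f : Set (IrrCharacter H)} {ψ : IrrCharacter H} (hf : OneBrauer p M f ψ) {χ : G → ℂ}
    (hχ : Cfsg.IsClassFunction G χ) {a : GA (Res M) H} (ha : a * a = a) (hfa : gblk M f * a = a)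
    {j : GA (Res M) G} (hj : j * j = j) (hxj : conjA (Res M) x j = j)
    (hbr : br (Subgroup.zpowers x) j = emb φ a) :
    T M χ x j = colv φ z f χ * T M (ψ : H → ℂ) 1 a := by
  classical
  obtain ⟨E, hE, hEz⟩ := exists_lift (M := M) a ha
  have hEa := (hEz 1 (conjA_one_left a)).2
  obtain ⟨hcE, -⟩ := hEz z (ga_ext fun h => by
    rw [conjA_coeff, mul_assoc, ← hc.central h, inv_mul_cancel_left])
  have habove : Above M x (MonoidAlgebra.mapDomainRingHom (localRing M) φ E) (emb φ a) := by
    refine ⟨?_, by rw [rho_map hc.inj, hEa]⟩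
    have := hcE.map (MonoidAlgebra.mapDomainRingHom (localRing M) φ)
    rwa [MonoidAlgebra.mapDomainRingHom_apply, MonoidAlgebra.mapDomainRingHom_apply,
      MonoidAlgebra.mapDomain_single, hc.map_z] at this
  rw [T_eq_of_br_eq hχ hM ((pPart_of_pElement (p := p) hx) ▸ pPart_spec x) hj (by rw [← map_mul, ha]) hxj
      (hc.conjA_emb_eq a) (by rw [hbr, hc.br_emb_eq]),
    T_eq hχ (by rw [← map_mul, hE]) habove, hc.tau_map χ E,
    tau_sum (hc.translate_isClassFunction hχ) E, colv, Finset.sum_mul]
  simp only [tau_eq_T_of_agree hM hf ha hE hEa hfa, mul_ite, mul_zero]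
  rw [← Finset.sum_filter]
  exact Finset.sum_congr (by ext; simp) fun _ _ => rfl

/-- The trace of the block at a regular translate. -/
theorem T_block (hM : Cfsg.IsPModular p M)
    {f : Set (IrrCharacter H)} {ψ : IrrCharacter H} (hf : OneBrauer p M f ψ) {χ : G → ℂ}
    (hχ : Cfsg.IsClassFunction G χ) {s : H} (hs : ¬ p ∣ orderOf s) :
    T M χ (x * φ s) (emb φ (gblk M f)) = colv φ z f χ * (ψ : H → ℂ) s := by
  classical
  have hu := isBlockUnion_of_isPBlock hf.block
  set F : MonoidAlgebra (localRing M) H :=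
    (setIdemO M f (memLocalRing_blockCoeff hu) : MonoidAlgebra (localRing M) H) with hF
  have hFc : ∀ w, Commute F w := fun w =>
    (Subring.mem_center_iff.1 (setIdemO M f (memLocalRing_blockCoeff hu)).2 w).symm
  have hFF : F * F = F := by
    rw [hF, ← Subring.coe_mul]
    congr 1
    exact CfsgLib.Blocks.ctr_ext_omegaO fun φ => by
      rw [map_mul, CfsgLib.Blocks.omegaO_setIdemO]; split_ifs <;> simp
  have habove : Above M (x * φ s) (MonoidAlgebra.mapDomainRingHom (localRing M) φ F)
      (emb φ (gblk M f)) := by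
    refine ⟨?_, by rw [rho_map hc.inj, hF, gblk_eq hu]⟩
    have := ((hFc (MonoidAlgebra.single (z * s) 1)).symm).map
      (MonoidAlgebra.mapDomainRingHom (localRing M) φ)
    rwa [MonoidAlgebra.mapDomainRingHom_apply, MonoidAlgebra.mapDomainRingHom_apply,
      MonoidAlgebra.mapDomain_single, map_mul, hc.map_z] at this
  rw [T_eq hχ (by rw [← map_mul, hFF]) habove,
    show MonoidAlgebra.single (x * φ s) (1 : localRing M) *
        MonoidAlgebra.mapDomainRingHom (localRing M) φ F =
      MonoidAlgebra.single x 1 *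
        MonoidAlgebra.mapDomainRingHom (localRing M) φ (MonoidAlgebra.single s 1 * F) by
      rw [map_mul, MonoidAlgebra.mapDomainRingHom_apply _ φ (MonoidAlgebra.single s 1),
        MonoidAlgebra.mapDomain_single, ← mul_assoc, MonoidAlgebra.single_mul_single, one_mul],
    hc.tau_map χ, ← (hFc (MonoidAlgebra.single s 1)).eq,
    tau_sum (hc.translate_isClassFunction hχ), colv, Finset.sum_mul]
  simp only [hF, tau_mul_setIdemO _ hu, mul_ite, mul_zero]
  rw [← Finset.sum_filter]
  refine Finset.sum_congr (by ext; simp) fun ξ hξ => ?_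
  rw [tau_apply, Finset.sum_eq_single s (fun b _ hb => by simp [Ne.symm hb]) (by simp),
    hf.agree ξ ((Set.Finite.mem_toFinset _).1 hξ) s hs]
  simp

/-- The column value is a cyclotomic integer. -/
theorem colv_mem {ζ : ℂ} {N : ℕ} [NeZero N] (hζ : IsPrimitiveRoot ζ N) (hxN : orderOf x ∣ N)
    (f : Set (IrrCharacter H)) {χ : G → ℂ} (hχ : Cfsg.IsCharacter G χ) :
    colv φ z f χ ∈ BlocksCharsC.cyRing ζ := by
  classical
  have hres := Characters.isCharacter_comp φ hχ
  choose n hn using fun ξ : IrrCharacter H => Characters.classInner_character_irr hres ξ.2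
  have hroot : ∀ ξ : IrrCharacter H, ∃ i : ℕ, ∀ h : H,
      (ξ : H → ℂ) (z * h) = ζ ^ i * (ξ : H → ℂ) h := fun ξ => by
    have h1 := Characters.irr_one_ne_zero ξ.2
    set ω := (ξ : H → ℂ) z / (ξ : H → ℂ) 1 with hω
    have hstep : ∀ h : H, (ξ : H → ℂ) (z * h) = ω * (ξ : H → ℂ) h := fun h => by
      rw [hω, div_mul_eq_mul_div, eq_div_iff h1]
      exact BlocksCharsC.irr_central_mul ξ.2 hc.mem_center h
    have hpow : ∀ m : ℕ, (ξ : H → ℂ) (z ^ m) = ω ^ m * (ξ : H → ℂ) 1 := by
      intro m
      induction m with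
      | zero => simp
      | succ m ih => rw [pow_succ', hstep, ih, pow_succ', mul_assoc]
    have hN : ω ^ N = 1 := by
      have hz : z ^ N = 1 := orderOf_dvd_iff_pow_eq_one.1 (by
        rwa [← orderOf_injective φ hc.inj, hc.map_z])
      have h := hpow N
      rw [hz] at h
      exact mul_right_cancel₀ h1 (h.symm.trans (one_mul _).symm)
    obtain ⟨i, -, hi⟩ := hζ.eq_pow_of_pow_eq_one hN
    exact ⟨i, fun h => by rw [hi, hstep]⟩
  choose i hi using hroot
  have htr : (fun h => χ (φ (z * h))) =
      ∑ ξ : IrrCharacter H, ((n ξ : ℂ) * ζ ^ i ξ) • (ξ : H → ℂ) := by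
    funext h
    have e := congrFun (Characters.character_expansion hres) (z * h)
    simp only [Finset.sum_apply, Pi.smul_apply, smul_eq_mul, hn] at e ⊢
    rw [e]
    exact Finset.sum_congr rfl fun ξ _ => by rw [hi ξ h]; ring
  rw [colv, htr]
  refine Subring.sum_mem _ fun ξ _ => ?_
  rw [Characters.classInner_irr_coeff]
  exact mul_mem (natCast_mem _ _) (BlocksCharsC.cy_pow_mem _)

/-- In a nilpotent block the column value of a character of height zero has absolute value one. -/
theorem colv_mul_conj (hM : Cfsg.IsPModular p M) [CharP (Res M) p] [IsAlgClosed (Res M)]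
    {B : Set (IrrCharacter G)} {P : Subgroup G} {eP : GA (Res M) G} (hB : Cfsg.IsPBlock M B)
    (hmax : IsMaxPair p ⊤ (gblk M B) P eP) (hn : Nilp p ⊤ (gblk M B)) {χ : IrrCharacter G}
    (hχ : χ ∈ B) (h0 : Cfsg.blockHeight p B (χ : G → ℂ) = 0) (hxP : x ∈ P)
    {f : Set (IrrCharacter H)} {ψ : IrrCharacter H} (hf : OneBrauer p M f ψ)
    (hbelow : below p P eP (Subgroup.zpowers x) = emb φ (gblk M f))
    (hcard : Nat.card ↥(P ⊓ cent ⊤ (Subgroup.zpowers x)) = p ^ Cfsg.blockDefect p f) :
    colv φ z f (χ : G → ℂ) * conj (colv φ z f (χ : G → ℂ)) = 1 := by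
  classical
  have hcl := Characters.isClassFunction_of_isIrr χ.2
  have hrange : φ.range = cent ⊤ (Subgroup.zpowers x) := by rw [cent_zpowers]; exact hc.range_eq
  have h := aval_eq_one hM hB hmax hn hχ h0 ⟨x, hxP⟩
  rw [aval, cval, wt, hbelow, hcard, ← hrange] at h
  have hsum : nsum p (χ : G → ℂ) (χ : G → ℂ) φ.range x (emb φ (gblk M f)) =
      colv φ z f (χ : G → ℂ) * conj (colv φ z f (χ : G → ℂ)) *
        ((Nat.card H : ℂ) * regInner p (ψ : H → ℂ) ψ) := by
    rw [nsum_eq_sum, regInner, ← mul_assoc (Nat.card H : ℂ),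
      mul_inv_cancel₀ (Nat.cast_ne_zero.2 Nat.card_pos.ne'), one_mul, Finset.mul_sum]
    refine (Fintype.sum_equiv (MonoidHom.ofInjective hc.inj).toEquiv _ _ fun s => ?_).symm
    rw [MulEquiv.toEquiv_eq_coe, EquivLike.coe_coe, MonoidHom.ofInjective_apply hc.inj]
    rw [show orderOf (MonoidHom.ofInjective hc.inj s) = orderOf s from MulEquiv.orderOf_eq _ s]
    split_ifs with hs
    · rw [mul_zero]
    · rw [hc.T_block hM hf hcl hs, map_mul]
      ring
  have hH : (Nat.card φ.range : ℂ) = (Nat.card H : ℂ) := by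
    rw [Nat.card_congr (MonoidHom.ofInjective hc.inj).toEquiv]
  rw [hsum, hH] at h
  rw [← h]
  have hH0 : (Nat.card H : ℂ) ≠ 0 := Nat.cast_ne_zero.2 Nat.card_pos.ne'
  calc colv φ z f (χ : G → ℂ) * conj (colv φ z f (χ : G → ℂ))
      = colv φ z f (χ : G → ℂ) * conj (colv φ z f (χ : G → ℂ)) *
          (((p ^ Cfsg.blockDefect p f : ℕ) : ℂ) * regInner p (ψ : H → ℂ) ψ) := by
        rw [hf.self, mul_one]
    _ = _ := by field_simp

end CentMap

end CfsgLib.HomocyclicBlock
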