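import Cfsg.Agent.HomocyclicBlock.Action
import Cfsg.Agent.HomocyclicBlock.Trace
import Cfsg.Agent.Star.Local

/-!
# The local data of a block with defect group `C_q × C_q`

A primitive `D`-fixed idempotent `j` over the maximal pair gives in each centralizer of a
non-trivial subgroup of `D` an idempotent of the block below, which has one Brauer character.
The traces `Loc.mu` are odd and the maps `x ↦ T ψ x` are generalized characters of `D`.
-/

set_option autoImplicit false
set_option linter.unusedSectionVars false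
set_option linter.style.haveILetI false
set_option maxHeartbeats 800000

namespace CfsgLib.HomocyclicBlock

open Cfsg CfsgLib.BlockPairs CfsgLib.Star CfsgLib.InertialQuotient
open CfsgLib.Blocks (localRing red Res isBlockUnion_of_isPBlock)
open scoped ComplexConjugate

universe u

variable {G : Type u} [Group G] [Fintype G] [∀ H : Subgroup G, Fintype H] {M : Ideal AlgInt}
  [M.IsPrime] [CharP (Res M) 2] [IsAlgClosed (Res M)]
  {B : Set (IrrCharacter G)} {D : Subgroup G} {eP : GA (Res M) G} {m : ℕ}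

/-- A primitive idempotent fixed by `D` whose image at `D` lies in the block of the maximal pair. -/
structure Lead (D : Subgroup G) (eP j : GA (Res M) G) : Prop where
  prim : Prim (sub (F := Res M) (⊤ : Subgroup G) D) j
  mul_eq : br D j * eP = br D j
  ne_zero : br D j ≠ 0

/-- The data at a subgroup `Q` of `D`. -/
structure Loc (D : Subgroup G) (eP j : GA (Res M) G) (Q : Subgroup G) where
  f : Set (IrrCharacter ↥(Subgroup.centralizer (Q : Set G)))
  ψ : IrrCharacter ↥(Subgroup.centralizer (Q : Set G))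
  a : GA (Res M) ↥(Subgroup.centralizer (Q : Set G))
  e : GA (Res M) ↥(Subgroup.centralizer (Q : Set G))
  one : OneBrauer 2 M f ψ
  emb_f : emb (Subgroup.centralizer (Q : Set G)).subtype (gblk M f) = below 2 D eP Q
  emb_e : emb (Subgroup.centralizer (Q : Set G)).subtype e = eP
  max : IsMaxPair 2 ⊤ (gblk M f) (D.subgroupOf (Subgroup.centralizer (Q : Set G))) e
  nilp : Nilp 2 ⊤ (gblk M f)
  defect : Nat.card D = 2 ^ Cfsg.blockDefect 2 f
  emb_a : emb (Subgroup.centralizer (Q : Set G)).subtype a = br Q j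
  idem_a : a * a = a
  mem_a : gblk M f * a = a

theorem emb_comp {X Y : Type u} [Group X] [Group Y] {f : X →* Y} {g : Y →* G}
    (hf : Function.Injective f) (hg : Function.Injective g) (a : GA (Res M) X) :
    emb g (emb f a) = emb (g.comp f) a := by
  refine ga_ext fun v => ?_
  have hgf : Function.Injective (g.comp f) := hg.comp hf
  by_cases hv : v ∈ g.range
  · obtain ⟨y, rfl⟩ := hv
    rw [emb_coeff_apply hg]
    by_cases hy : y ∈ f.range
    · obtain ⟨x, rfl⟩ := hy
      rw [emb_coeff_apply hf, show g (f x) = (g.comp f) x from rfl, emb_coeff_apply hgf]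
    · rw [emb_coeff_not_mem f _ hy, emb_coeff_not_mem]
      rintro ⟨x, hx⟩
      exact hy ⟨x, hg hx⟩
  · rw [emb_coeff_not_mem g _ hv, emb_coeff_not_mem]
    rintro ⟨x, hx⟩
    exact hv ⟨f x, hx⟩

/-- A generalized character is congruent to its degree at the p-elements. -/
theorem gen_congr_one {X : Type u} [Group X] [Fintype X] (hM : Cfsg.IsPModular 2 M) {θ : X → ℂ}
    (hθ : Cfsg.IsGeneralizedCharacter X θ) {x : X} (hx : ∃ k, orderOf x = 2 ^ k) :
    Cfsg.MemLocalIdeal M (θ x - θ 1) := by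
  have hchar : ∀ {η : X → ℂ}, Cfsg.IsCharacter X η → Cfsg.MemLocalIdeal M (η x - η 1) := by
    intro η hη
    obtain ⟨c, rfl⟩ := Characters.exists_nat_coeff hη
    simp only [Finset.sum_apply, Pi.smul_apply, smul_eq_mul, ← Finset.sum_sub_distrib, ← mul_sub]
    refine CfsgLib.Blocks.memLocalIdeal_sum _ fun χ _ =>
      CfsgLib.Blocks.memLocalIdeal_mul_left (CfsgLib.Blocks.memLocalRing_natCast _) ?_
    simpa using CfsgLib.Blocks.memLocalIdeal_char_mul_sub hM χ (Commute.one_right x) hx (by simp)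
  obtain ⟨a, b, ha, hb, rfl⟩ := hθ
  rw [Pi.sub_apply, Pi.sub_apply, show a x - b x - (a 1 - b 1) = (a x - a 1) - (b x - b 1) by ring]
  exact CfsgLib.Blocks.memLocalIdeal_sub (hchar ha) (hchar hb)

theorem Loc.exists_mu {Q : Subgroup G} {j : GA (Res M) G} (L : Loc D eP j Q) :
    ∃ n : ℕ, T M (L.ψ : ↥(Subgroup.centralizer (Q : Set G)) → ℂ) 1 L.a = n := by
  obtain ⟨E, hE, hEz⟩ := exists_lift (M := M) L.a L.idem_a
  obtain ⟨n, hn, -⟩ := CyclicDefect.exists_rank (Characters.isCharacter_of_isIrr L.ψ.2) hE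
  exact ⟨n, by rw [T_eq (Characters.isClassFunction_of_isIrr L.ψ.2) hE (hEz 1 (conjA_one_left _)),
    ← MonoidAlgebra.one_def, one_mul, hn]⟩

/-- The trace at `1`. -/
noncomputable def Loc.mu {Q : Subgroup G} {j : GA (Res M) G} (L : Loc D eP j Q) : ℕ :=
  L.exists_mu.choose

theorem Loc.mu_spec {Q : Subgroup G} {j : GA (Res M) G} (L : Loc D eP j Q) :
    T M (L.ψ : ↥(Subgroup.centralizer (Q : Set G)) → ℂ) 1 L.a = L.mu :=
  L.exists_mu.choose_spec

namespace Setup

variable (S : Setup M B D eP m)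

include S

theorem exists_lead : ∃ j, Lead D eP j := by
  classical
  obtain ⟨s, hs⟩ := Star.exists_decomp (A := sub (F := Res M) (⊤ : Subgroup G) D) (one_mem _)
    (one_mul (1 : GA (Res M) G))
  have heP := S.max.1.1.2.2
  have hsum : ∑ a ∈ s, br D a * eP = eP := by
    rw [← Finset.sum_mul, ← br_sum, hs.2.2, br_one, one_mul]
  obtain ⟨a, ha, hne⟩ := Finset.exists_ne_zero_of_sum_ne_zero (hsum.trans_ne heP.ne_zero)
  have hsp : Split 2 D D ⊥ :=
    ⟨le_rfl, bot_le, S.max.1.1.2.1, fun x hx => by rw [Subgroup.mem_bot] at hx; simp [hx],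
      fun q _ x hx => by rw [Subgroup.mem_bot] at hx; rw [hx]; exact Commute.one_right q,
      fun e he => ⟨e, he, 1, one_mem _, mul_one e⟩⟩
  have hne' : br D a ≠ 0 := fun h => hne (by rw [h, zero_mul])
  obtain ⟨g, hg, -, hag⟩ := exists_pair_of_br_ne_zero hsp (hs.1 a ha) hne'
  refine ⟨a, hs.1 a ha, ?_, hne'⟩
  have hge : g = eP := hg.2.2.eq_of_mul_ne_zero heP fun h0 => hne (by
    rw [← hag, mul_assoc, h0, mul_zero])
  rwa [hge] at hag

variable {j : GA (Res M) G} (hj : Lead D eP j)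

include hj

theorem br_below {Q : Subgroup G} (hQ : Q ≤ D) : below 2 D eP Q * br Q j = br Q j := by
  have hsp : Split 2 D D ⊥ :=
    ⟨le_rfl, bot_le, S.max.1.1.2.1, fun x hx => by rw [Subgroup.mem_bot] at hx; simp [hx],
      fun q _ x hx => by rw [Subgroup.mem_bot] at hx; rw [hx]; exact Commute.one_right q,
      fun e he => ⟨e, he, 1, one_mem _, mul_one e⟩⟩
  have hle := le_below' S.max hQ
  have hgE : IsFixed D eP := S.max.1.1.fixed_self
  have h := br_mul_eq_of_le hsp hj.prim S.max.1.1 hgE hj.mul_eq hj.ne_zero hQ hle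
  rwa [mul_comm_of_fixed_supp (P := Subgroup.centralizer (Q : Set G))
    (isBlock_below S.max hQ).fixed (isSupp_br Q j)]

theorem exists_loc {Q : Subgroup G} (hQ : Q ≤ D) (hQ1 : Q ≠ ⊥) : Nonempty (Loc D eP j Q) := by
  classical
  set K := Subgroup.centralizer (Q : Set G) with hK
  have hinj := K.subtype_injective
  have hPK : D ≤ K := le_centralizer_of_le S.hab hQ
  have hCP : Subgroup.centralizer (D : Set G) ≤ K :=
    Subgroup.centralizer_le (SetLike.coe_subset_coe.2 hQ)
  have hmK := maxPair_below S.block S.max S.hab hQ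
  have hPm : (D.subgroupOf K).map K.subtype = D := Subgroup.map_subgroupOf_eq_of_le hPK
  have htop : (⊤ : Subgroup K).map K.subtype = K := by
    rw [← MonoidHom.range_eq_map, K.range_subtype]
  obtain ⟨b, hb, hbe⟩ := exists_eq_sblk (M := M) (isBlock_below S.max hQ)
  obtain ⟨e, he⟩ := exists_emb_of_isSupp (φ := K.subtype) hinj (z := eP)
    ((isBlock_centralizer S.max.1.1).supp.mono (by rw [K.range_subtype]; exact hCP))
  have hbh : BlockHas 2 ⊤ (gblk M b) (D.subgroupOf K) e := by
    refine (blockHas_map_iff (φ := K.subtype) hinj).1 ?_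
    rw [htop, hPm, he, emb_gblk, ← hbe]
    exact hmK.1
  have hd : IsDefectGrp 2 ⊤ (gblk M b) (D.subgroupOf K) := by
    rw [← isDefectGroup_gblk_iff hb, isDefectGroup_subgroupOf_iff hb hPK, ← hbe]
    exact (hmK.isDefectGrp (isBlock_below S.max hQ)).1
  have hmax' := isMaxPair_of_defect hd hbh
  have hab' : D.subgroupOf K ≤ Subgroup.centralizer ((D.subgroupOf K : Subgroup K) : Set K) :=
    fun a ha => Subgroup.mem_centralizer_iff.2 fun c hc =>
      Subtype.ext (Subgroup.mem_centralizer_iff.1 (S.hab ha) c hc)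
  obtain ⟨q, hq, hq1⟩ := Q.bot_or_exists_ne_one.resolve_left hQ1
  have hn : Nilp 2 ⊤ (gblk M b) := by
    refine nilp_of_stab hb hmax' hab' fun x hx => ?_
    have hx' := (map_mem_stab_iff (φ := K.subtype) hinj).2 hx
    rw [htop, hPm, he] at hx'
    have hxq : (x : G) * q * (x : G)⁻¹ = q := by
      rw [← Subgroup.mem_centralizer_iff.1 x.2 q hq, mul_inv_cancel_right]
    have hxC := S.free (t := (x : G)) ⟨⟨trivial, hx'.1.2⟩, hx'.2⟩ (hQ hq) hq1 hxq
    exact Subgroup.mem_centralizer_iff.2 fun c hc =>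
      Subtype.ext (Subgroup.mem_centralizer_iff.1 hxC c hc)
  obtain ⟨hcard, ψ, hψ⟩ := exists_oneBrauer S.modular hb hmax' hab' hn
  obtain ⟨a, ha⟩ := exists_emb_of_isSupp (φ := K.subtype) hinj (z := br Q j)
    (by rw [K.range_subtype]; exact isSupp_br Q j)
  have hDQ : IsFixed Q j := hj.prim.1.2.mono hQ
  have haa : a * a = a := emb_injective hinj (by
    rw [map_mul, ha, br_idem (S.max.1.1.2.1.to_le hQ) hDQ hj.prim.2.1])
  have hfa : gblk M b * a = a := emb_injective hinj (by
    rw [map_mul, ha, emb_gblk, ← hbe, S.br_below hj hQ])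
  exact ⟨⟨b, ψ, a, e, hψ, by rw [emb_gblk, ← hbe], he, hmax', hn, by
    rw [← hcard]; exact (Nat.card_congr (Subgroup.subgroupOfEquivOfLe hPK).toEquiv).symm,
    ha, haa, hfa⟩⟩

/-- The chosen data at `Q`. -/
noncomputable def loc {Q : Subgroup G} (hQ : Q ≤ D) (hQ1 : Q ≠ ⊥) : Loc D eP j Q :=
  (S.exists_loc hj hQ hQ1).some

/-- The trace at `1` of the data at `Q`. -/
noncomputable def mu (Q : Subgroup G) : ℕ :=
  open Classical in if h : Q ≤ D ∧ Q ≠ ⊥ then (S.loc hj h.1 h.2).mu else 1

theorem mu_eq {Q : Subgroup G} (hQ : Q ≤ D) (hQ1 : Q ≠ ⊥) :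
    S.mu hj Q = (S.loc hj hQ hQ1).mu := dif_pos ⟨hQ, hQ1⟩

theorem conjA_br_eq {Q : Subgroup G} (hQ : Q ≤ D) {x : G} (hx : x ∈ D) :
    conjA (Res M) x (br Q j) = br Q j :=
  isFixed_br (R := D) (P := Q) ((le_centralizer_of_le S.hab hQ).trans
    (Subgroup.centralizer_le_normalizer _)) hj.prim.1.2 x hx

theorem D_ne_bot : D ≠ ⊥ := fun h => by
  have := S.card
  rw [h, Subgroup.card_bot] at this
  exact absurd this.symm (Nat.one_lt_pow (by have := S.two_le; omega) (by norm_num)).ne'

/-- The image at `D` of the idempotent is primitive. -/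
theorem prim_a : Prim (⊤ : Subalgebra (Res M) (GA (Res M) ↥(Subgroup.centralizer (D : Set G))))
    (S.loc hj le_rfl (S.D_ne_bot hj)).a := by
  set L := S.loc hj le_rfl (S.D_ne_bot hj)
  set K := Subgroup.centralizer (D : Set G) with hK
  have hinj := K.subtype_injective
  refine ⟨trivial, L.idem_a, fun h => hj.ne_zero (by rw [← L.emb_a, h, map_zero]),
    fun f _ hff haf hfa => ?_⟩
  set ε := br D j with hε
  set ε₁ := emb K.subtype f with hε₁
  have h11 : ε₁ * ε₁ = ε₁ := by rw [hε₁, ← map_mul, hff]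
  have h1 : ε * ε₁ = ε₁ := by rw [hε, ← L.emb_a, hε₁, ← map_mul, haf]
  have h2 : ε₁ * ε = ε₁ := by rw [hε, ← L.emb_a, hε₁, ← map_mul, hfa]
  have hsupp : IsSupp K ε₁ := fun g hg => by
    by_contra hn
    exact hg (emb_coeff_not_mem _ f (by rwa [K.range_subtype]))
  have hfix : IsFixed D ε₁ := fun d hd => ga_ext fun g => by
    rw [conjA_coeff]
    by_cases hg : g ∈ K
    · rw [mul_assoc, ← Subgroup.mem_centralizer_iff.1 hg d hd, inv_mul_cancel_left]
    · rw [hsupp.coeff_eq_zero hg, hsupp.coeff_eq_zero]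
      intro hn
      apply hg
      have := Subgroup.mem_centralizer_iff.1 hn d hd
      have h3 : g = d⁻¹ * g * d := by
        calc g = d * (d⁻¹ * g * d) * d⁻¹ := by group
          _ = _ := by rw [this]; group
      rwa [h3]
  have hp := S.max.1.1.2.1
  have hbr : br D (j * ε₁ * j) = ε₁ := by
    rw [br_mul hp (fun d hd => by rw [conjA_mul, hj.prim.1.2 d hd, hfix d hd]) hj.prim.1.2,
      br_mul hp hj.prim.1.2 hfix, br_eq_self hsupp, ← hε, h1, h2]
  have hcor : InCorner (sub (F := Res M) (⊤ : Subgroup G) D) j j (j * ε₁ * j) :=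
    InCorner.mk' hj.prim.2.1 hj.prim.2.1 hj.prim.1 hj.prim.1 ⟨isSupp_top _, hfix⟩
  rcases hj.prim.nilpotent_or_inv hcor with hnil | ⟨w, hw, hxw, -⟩
  · left
    have h0 := eq_zero_of_idem_nilpotent h11 (hbr ▸ isNilpotent_br hp hcor.1.2 hnil)
    exact emb_injective hinj (h0.trans (map_zero _).symm)
  · right
    have h := congrArg (br D) hxw
    rw [br_mul hp hcor.1.2 hw.1.2, hbr, ← hε] at h
    have h3 : ε₁ * ε = ε := by rw [← h, ← mul_assoc, h11]
    rw [h2] at h3
    exact emb_injective hinj (h3.trans L.emb_a.symm)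

theorem odd_mu_D : ¬ 2 ∣ S.mu hj D := by
  set L := S.loc hj le_rfl (S.D_ne_bot hj)
  rw [S.mu_eq hj le_rfl (S.D_ne_bot hj), ← CfsgLib.Blocks.memLocalIdeal_natCast_iff S.modular,
    ← L.mu_spec]
  exact L.one.not_memLocalIdeal_T S.modular (S.prim_a hj) L.mem_a

theorem sup_zpowers_ne_bot {R : Subgroup G} (hR1 : R ≠ ⊥) (x : G) : R ⊔ Subgroup.zpowers x ≠ ⊥ :=
  fun h => hR1 (eq_bot_iff.2 (h ▸ le_sup_left))

variable {R : Subgroup G} (hR : R ≤ D) (hR1 : R ≠ ⊥)

/-- The generalized character of `D` attached to `R`. -/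
noncomputable def gen (x : D) : ℂ :=
  T M ((S.loc hj hR hR1).ψ : ↥(Subgroup.centralizer (R : Set G)) → ℂ)
    ⟨(x : G), le_centralizer_of_le S.hab hR x.2⟩ (S.loc hj hR hR1).a

theorem loc_conjA (x : D) :
    conjA (Res M) (⟨(x : G), le_centralizer_of_le S.hab hR x.2⟩ :
      ↥(Subgroup.centralizer (R : Set G))) (S.loc hj hR hR1).a = (S.loc hj hR hR1).a := by
  refine emb_injective (Subgroup.centralizer (R : Set G)).subtype_injective ?_
  rw [← conjA_emb (Subgroup.centralizer (R : Set G)).subtype_injective, (S.loc hj hR hR1).emb_a]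
  exact S.conjA_br_eq hj hR x.2

theorem isGen_gen : Cfsg.IsGeneralizedCharacter D (S.gen hj hR hR1) := by
  set L := S.loc hj hR hR1
  have hDK := le_centralizer_of_le S.hab hR
  obtain ⟨E, hE, hEz⟩ := exists_lift (M := M) L.a L.idem_a
  have hcl := Characters.isClassFunction_of_isIrr L.ψ.2
  haveI : Fintype ↥(D.subgroupOf (Subgroup.centralizer (R : Set G))) := Fintype.ofFinite _
  have hfix : ∀ y ∈ D.subgroupOf (Subgroup.centralizer (R : Set G)),
      conjA (Res M) y L.a = L.a := fun y hy => S.loc_conjA hj hR hR1 ⟨(y : G), hy⟩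
  have h := Characters.isGen_comp (Subgroup.subgroupOfEquivOfLe hDK).symm.toMonoidHom
    (isGen_trace (M := M) (Characters.isCharacter_of_isIrr L.ψ.2)
      (E := D.subgroupOf (Subgroup.centralizer (R : Set G))) E hE fun y hy => (hEz y (hfix y hy)).1)
  convert! h using 1
  funext x
  exact T_eq hcl hE (hEz _ (S.loc_conjA hj hR hR1 x))

/-- The value at `x` is a unit times the trace at the join. -/
theorem gen_apply {ζ : ℂ} (hζ : IsPrimitiveRoot ζ (4 ^ m)) (x : D) :
    ∃ c : ℂ, c * conj c = 1 ∧ c ∈ BlocksCharsC.cyRing ζ ∧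
      S.gen hj hR hR1 x = c * S.mu hj (R ⊔ Subgroup.zpowers (x : G)) := by
  classical
  set K := Subgroup.centralizer (R : Set G) with hK
  set Q := R ⊔ Subgroup.zpowers (x : G) with hQdef
  have hQ : Q ≤ D := sup_le hR (Subgroup.zpowers_le.2 x.2)
  have hQ1 : Q ≠ ⊥ := S.sup_zpowers_ne_bot hj hR1 _
  set L := S.loc hj hR hR1
  set L' := S.loc hj hQ hQ1
  set H := Subgroup.centralizer (Q : Set G) with hH
  have hDK : D ≤ K := le_centralizer_of_le S.hab hR
  have hDH : D ≤ H := le_centralizer_of_le S.hab hQ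
  have hHK : H ≤ K := Subgroup.centralizer_le (SetLike.coe_subset_coe.2 le_sup_left)
  set xK : K := ⟨(x : G), hDK x.2⟩ with hxK
  set z : H := ⟨(x : G), hDH x.2⟩ with hz
  set φ : H →* K := Subgroup.inclusion hHK with hφ
  have hφinj : Function.Injective φ := Subgroup.inclusion_injective hHK
  have hcomp : K.subtype.comp φ = H.subtype := rfl
  have hc : CentMap xK φ z := by
    refine ⟨hφinj, ?_, rfl⟩
    rw [Subgroup.inclusion_range]
    ext k
    rw [Subgroup.mem_subgroupOf, Subgroup.mem_centralizer_singleton_iff, hH, hQdef, centralizer_sup,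
      Subgroup.mem_inf]
    constructor
    · exact fun h => Subtype.ext (Subgroup.mem_centralizer_iff.1 h.2 x (Subgroup.mem_zpowers _)).symm
    · intro h
      refine ⟨k.2, Subgroup.mem_centralizer_iff.2 fun v ⟨i, hi⟩ => hi ▸ ?_⟩
      exact ((show Commute (x : G) k from (congrArg Subtype.val h).symm).zpow_left i).eq
  have hxord : orderOf xK = orderOf (x : G) := (Subgroup.orderOf_coe xK).symm
  have hx2 : ∃ k, orderOf xK = 2 ^ k := by rw [hxord]; exact S.pElem x.2
  refine ⟨colv φ z L'.f (L.ψ : K → ℂ), ?_, ?_, ?_⟩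
  · have hab' : D.subgroupOf K ≤ Subgroup.centralizer ((D.subgroupOf K : Subgroup K) : Set K) :=
      fun a ha => Subgroup.mem_centralizer_iff.2 fun c hc' =>
        Subtype.ext (Subgroup.mem_centralizer_iff.1 (S.hab ha) c hc')
    have hzD : Subgroup.zpowers xK ≤ D.subgroupOf K := Subgroup.zpowers_le.2 x.2
    refine hc.colv_mul_conj S.modular L.one.block L.max L.nilp L.one.mem L.one.height x.2 L'.one
      ?_ ?_
    · have hinj := K.subtype_injective
      have htop : (⊤ : Subgroup K).map K.subtype = K := by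
        rw [← MonoidHom.range_eq_map, K.range_subtype]
      have hmap : (Subgroup.zpowers xK).map K.subtype = Subgroup.zpowers (x : G) :=
        MonoidHom.map_zpowers _ _
      have hC : (Subgroup.centralizer (Subgroup.zpowers xK : Set K)).map K.subtype = H := by
        rw [← cent_top, map_cent hinj, htop, hmap, hH, hQdef, centralizer_sup]
      have hemb : emb K.subtype (emb φ (gblk M L'.f)) = below 2 D eP Q := by
        rw [emb_comp hφinj hinj, hcomp, L'.emb_f]
      refine below_of_blockHas L.one.block L.max hab' hzD ?_ ?_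
      · rw [← isBlock_map_iff (φ := K.subtype) hinj, hC, hemb]
        exact isBlock_below S.max hQ
      · rw [← blockHas_map_iff (φ := K.subtype) hinj, hC, hemb, L.emb_e,
          Subgroup.map_subgroupOf_eq_of_le hDK]
        exact (maxPair_below S.block S.max S.hab hQ).1
    · rw [cent_top, inf_eq_left.2 (le_centralizer_of_le hab' hzD),
        Nat.card_congr (Subgroup.subgroupOfEquivOfLe hDK).toEquiv, L'.defect]
  · haveI : NeZero (4 ^ m) := ⟨by positivity⟩
    refine hc.colv_mem hζ ?_ _ (Characters.isCharacter_of_isIrr L.ψ.2)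
    rw [hxord, ← S.card]
    exact Subgroup.orderOf_dvd_natCard D x.2
  · rw [S.mu_eq hj hQ hQ1, ← L'.mu_spec]
    refine hc.T_factor S.modular hx2 L'.one (Characters.isClassFunction_of_isIrr L.ψ.2) L'.idem_a
      L'.mem_a L.idem_a (S.loc_conjA hj hR hR1 x) ?_
    refine emb_injective K.subtype_injective ?_
    rw [emb_comp hφinj K.subtype_injective, hcomp, L'.emb_a, ← br_emb K.subtype_injective,
      L.emb_a, MonoidHom.map_zpowers, Subgroup.coe_subtype, hQdef, br_sup]

include hR hR1 in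
/-- The parity does not change on joining a cyclic subgroup. -/
theorem mu_dvd_iff (x : D) :
    2 ∣ S.mu hj (R ⊔ Subgroup.zpowers (x : G)) ↔ 2 ∣ S.mu hj R := by
  classical
  have hne : 4 ^ m ≠ 0 := by positivity
  have hζ := Complex.isPrimitiveRoot_exp (4 ^ m) hne
  set ζ := Complex.exp (2 * Real.pi * Complex.I / (4 ^ m : ℕ))
  have hring : ∀ c ∈ BlocksCharsC.cyRing ζ, Cfsg.MemLocalRing M c := by
    intro c hc
    have hle : BlocksCharsC.cyRing ζ ≤ localRing M := Subring.closure_le.2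
      (Set.singleton_subset_iff.2 (CfsgLib.Blocks.memLocalRing_of_isIntegral
        (hζ.isIntegral (Nat.pos_of_ne_zero hne))))
    exact hle hc
  obtain ⟨c, hc1, hc2, hcx⟩ := S.gen_apply hj hR hR1 hζ x
  obtain ⟨d, hd1, hd2, hdx⟩ := S.gen_apply hj hR hR1 hζ 1
  rw [OneMemClass.coe_one, Subgroup.zpowers_one_eq_bot, sup_bot_eq] at hdx
  have hconj : ∀ e ∈ BlocksCharsC.cyRing ζ, Cfsg.MemLocalRing M (conj e) := by
    intro e he
    refine CfsgLib.Blocks.memLocalRing_of_isIntegral (IsIntegral.map (starRingEnd ℂ).toIntAlgHom ?_)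
    have hle : BlocksCharsC.cyRing ζ ≤ (integralClosure ℤ ℂ).toSubring := Subring.closure_le.2
      (Set.singleton_subset_iff.2 (hζ.isIntegral (Nat.pos_of_ne_zero hne)))
    exact hle he
  have hgen := gen_congr_one S.modular (S.isGen_gen hj hR hR1) (x := x)
    (by simpa [Subgroup.orderOf_coe] using S.pElem x.2)
  rw [hcx, hdx] at hgen
  rw [← CfsgLib.Blocks.memLocalIdeal_natCast_iff S.modular,
    ← CfsgLib.Blocks.memLocalIdeal_natCast_iff S.modular]
  have hunit : ∀ {e : ℂ} {n : ℕ}, e * conj e = 1 → e ∈ BlocksCharsC.cyRing ζ →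
      (Cfsg.MemLocalIdeal M (e * n) ↔ Cfsg.MemLocalIdeal M (n : ℂ)) := fun {e n} h1 h2 =>
    ⟨fun h => by
      have := CfsgLib.Blocks.memLocalIdeal_mul_left (hconj e h2) h
      rwa [← mul_assoc, mul_comm (conj e), h1, one_mul] at this,
     fun h => CfsgLib.Blocks.memLocalIdeal_mul_left (hring e h2) h⟩
  rw [← hunit hc1 hc2, ← hunit hd1 hd2]
  constructor
  · intro h
    simpa using CfsgLib.Blocks.memLocalIdeal_sub h hgen
  · intro h
    simpa using CfsgLib.Blocks.memLocalIdeal_add hgen h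

omit hR hR1 in
/-- All the traces are odd. -/
theorem odd_mu (R : Subgroup G) (hR : R ≤ D) (hR1 : R ≠ ⊥) : ¬ 2 ∣ S.mu hj R := by
  classical
  induction hd : Nat.card D - Nat.card R using Nat.strong_induction_on generalizing R with
  | _ d ih =>
    rcases eq_or_lt_of_le hR with rfl | hlt
    · exact S.odd_mu_D hj
    obtain ⟨x, hxD, hxR⟩ := SetLike.exists_of_lt hlt
    rw [← S.mu_dvd_iff hj hR hR1 ⟨x, hxD⟩]
    have hlt' : R < R ⊔ Subgroup.zpowers x := lt_of_le_of_ne le_sup_left fun h =>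
      hxR (h.symm ▸ (le_sup_right : Subgroup.zpowers x ≤ R ⊔ Subgroup.zpowers x)
        (Subgroup.mem_zpowers x))
    refine ih _ ?_ _ (sup_le hR (Subgroup.zpowers_le.2 hxD)) (S.sup_zpowers_ne_bot hj hR1 x) rfl
    have h1 : Nat.card R < Nat.card ↥(R ⊔ Subgroup.zpowers x) := by
      refine lt_of_le_of_ne (Subgroup.card_le_of_le hlt'.le) fun hc => hlt'.ne ?_
      exact Subgroup.eq_of_le_of_card_ge hlt'.le hc.ge
    have h2 := Subgroup.card_le_of_le (sup_le hR (Subgroup.zpowers_le.2 hxD) :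
      R ⊔ Subgroup.zpowers x ≤ D)
    show Nat.card D - Nat.card ↥(R ⊔ Subgroup.zpowers x) < d
    omega

end Setup

end CfsgLib.HomocyclicBlock
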