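import Cfsg.Agent.Star.Nilpotent
import Cfsg.Agent.CyclicDefect.Rank
import Cfsg.Agent.Blocks.HeightZero
import Cfsg.Agent.Blocks.RegularSupport

/-!
# Nilpotent blocks with abelian defect groups: one Brauer character, odd traces

All members of such a block agree on the p-regular elements, so all its primitive idempotents are
equivalent and their traces are prime to `p`.
-/

set_option autoImplicit false
set_option linter.unusedSectionVars false
set_option linter.style.haveILetI false

namespace CfsgLib.HomocyclicBlock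

open Cfsg CfsgLib.BlockPairs CfsgLib.Star
open CfsgLib.Blocks (localRing red Res idemBar setIdemO isBlockUnion_of_isPBlock
  memLocalRing_blockCoeff)
open CfsgLib.BlockPairing (regInner)
open scoped ComplexConjugate

universe u

variable {G : Type u} [Group G] [Fintype G] {M : Ideal AlgInt} [M.IsPrime] {p : ℕ}
  [hp : Fact p.Prime]

/-- A block all of whose members agree with the member `ψ` on the p-regular elements. -/
structure OneBrauer (p : ℕ) (M : Ideal AlgInt) [M.IsPrime] (B : Set (IrrCharacter G))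
    (ψ : IrrCharacter G) : Prop where
  block : Cfsg.IsPBlock M B
  mem : ψ ∈ B
  height : Cfsg.blockHeight p B (ψ : G → ℂ) = 0
  agree : ∀ ξ ∈ B, ∀ g : G, ¬ p ∣ orderOf g → (ξ : G → ℂ) g = (ψ : G → ℂ) g
  self : ((p ^ Cfsg.blockDefect p B : ℕ) : ℂ) * regInner p (ψ : G → ℂ) ψ = 1
  card : Nat.card B = p ^ Cfsg.blockDefect p B

theorem OneBrauer.blockRank_eq {B : Set (IrrCharacter G)} {ψ : IrrCharacter G}
    (h : OneBrauer p M B ψ) : Cfsg.blockRank p B = 1 := by
  have hr : ∀ ξ ∈ B, Cfsg.pRegularPart p (ξ : G → ℂ) = Cfsg.pRegularPart p (ψ : G → ℂ) := by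
    intro ξ hξ
    funext g
    simp only [BlockPairing.pRegularPart_apply]
    split_ifs with hg
    · rfl
    · exact h.agree ξ hξ g hg
  have hset : (fun χ : IrrCharacter G => Cfsg.pRegularPart p (χ : G → ℂ)) '' B =
      {Cfsg.pRegularPart p (ψ : G → ℂ)} := by
    refine Set.eq_singleton_iff_unique_mem.2 ⟨⟨ψ, h.mem, rfl⟩, ?_⟩
    rintro _ ⟨ξ, hξ, rfl⟩
    exact hr ξ hξ
  rw [Cfsg.blockRank, hset]
  refine finrank_span_singleton fun h0 => Characters.irr_one_ne_zero ψ.2 ?_
  have := congrFun h0 1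
  rwa [BlockPairing.pRegularPart_apply, orderOf_one, if_neg hp.out.not_dvd_one] at this

section Nilpotent

variable [CharP (Res M) p] [IsAlgClosed (Res M)] {B : Set (IrrCharacter G)} {P : Subgroup G}
  {eP : GA (Res M) G}

/-- A nilpotent block with an abelian defect group. -/
theorem exists_oneBrauer (hM : Cfsg.IsPModular p M) (hB : Cfsg.IsPBlock M B)
    (hmax : IsMaxPair p ⊤ (gblk M B) P eP) (hab : P ≤ Subgroup.centralizer (P : Set G))
    (hn : Nilp p ⊤ (gblk M B)) :
    Nat.card P = p ^ Cfsg.blockDefect p B ∧ ∃ ψ, OneBrauer p M B ψ := by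
  classical
  have hd : Cfsg.IsDefectGroup p M B P :=
    (isDefectGroup_gblk_iff hB P).2 (IsMaxPair.isDefectGrp (isBlock_gblk hB) hmax).1
  have hP := CfsgLib.Blocks.card_defectGroup hM hB hd
  obtain ⟨χ, hχ, h0⟩ := CfsgLib.Blocks.exists_height_zero hM hB
  obtain ⟨Ψ, hinj, hiff, hreg⟩ := Star.exists_param hM hB hmax hn hχ h0
  have hc : ∀ a b : P, a * b = b * a := fun a b =>
    Subtype.ext (Subgroup.mem_centralizer_iff.1 (hab b.2) a a.2)
  have hone : ∀ θ : IrrCharacter P, (θ : P → ℂ) 1 = 1 := fun θ =>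
    TwoClasses.irr_degree_one_of_comm hc θ.2
  refine ⟨hP, χ, ⟨hB, hχ, h0, fun ξ hξ g hg => ?_, ?_, ?_⟩⟩
  · obtain ⟨θ, rfl⟩ := (hiff ξ).1 hξ
    rw [hreg θ g hg, hone, one_mul]
  · rw [← Contributions.cast_contrib hχ, Star.contrib_self hM hB hmax hn hχ h0, Int.cast_one]
  · rw [← hP]
    have hcard : Nat.card (IrrCharacter P) = Nat.card P := by
      have h := Characters.sum_degree_sq (G := P)
      simp only [hone, one_pow, Finset.sum_const, Finset.card_univ, nsmul_eq_mul, mul_one] at h
      rw [Nat.card_eq_fintype_card]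
      exact_mod_cast h
    rw [← hcard]
    refine (Nat.card_congr (Equiv.ofBijective (fun θ : IrrCharacter P =>
      (⟨Ψ θ, (hiff _).2 ⟨θ, rfl⟩⟩ : B)) ⟨fun a b e => hinj (congrArg Subtype.val e), ?_⟩)).symm
    rintro ⟨ξ, hξ⟩
    obtain ⟨θ, hθ⟩ := (hiff ξ).1 hξ
    exact ⟨θ, Subtype.ext hθ⟩

/-- A block whose maximal pair has trivial inertial quotient is nilpotent. -/
theorem nilp_of_stab (hB : Cfsg.IsPBlock M B) (hmax : IsMaxPair p ⊤ (gblk M B) P eP)
    (hab : P ≤ Subgroup.centralizer (P : Set G))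
    (h : stab ⊤ P eP ≤ Subgroup.centralizer (P : Set G)) : Nilp p ⊤ (gblk M B) := by
  have htop : Subgroup.centralizer (((⊥ : Subgroup G)) : Set G) = ⊤ :=
    Subgroup.centralizer_eq_top_iff_subset.2 fun x hx => by
      rw [SetLike.mem_coe, Subgroup.mem_bot] at hx; subst hx; exact one_mem _
  have hgb := isBlock_gblk (M := M) hB
  have hle := InertialQuotient.le_of_blockHas hmax.1.1 hab bot_le (htop.symm ▸ hgb)
    (htop.symm ▸ hmax.1)
  have := (InertialQuotient.nilp_centralizer_iff hgb hmax hab hle).2 fun g hg => h hg.1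
  rwa [htop] at this

end Nilpotent

namespace OneBrauer

variable [CharP (Res M) p] [IsAlgClosed (Res M)] {B : Set (IrrCharacter G)} {ψ : IrrCharacter G}

/-- All primitive idempotents of the block are equivalent. -/
theorem eqv (h : OneBrauer p M B ψ) {i i' : GA (Res M) G}
    (hi : Prim (⊤ : Subalgebra (Res M) (GA (Res M) G)) i) (hBi : gblk M B * i = i)
    (hi' : Prim (⊤ : Subalgebra (Res M) (GA (Res M) G)) i') (hBi' : gblk M B * i' = i') :
    Eqv (⊤ : Subalgebra (Res M) (GA (Res M) G)) i i' := by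
  classical
  have hbb := (isBlock_gblk (M := M) h.block).idem
  obtain ⟨s, hs⟩ := Star.exists_decomp (A := (⊤ : Subalgebra (Res M) (GA (Res M) G))) trivial hbb
  have hs' := hs
  rw [CyclicDefect.gblk_eq_idemBar h.block] at hs'
  have hall := BlocksLocal.eqv_of_regular_proportional (p := p) _
    (∑ χ ∈ B.toFinite.toFinset, BlocksLocal.classVec χ) (fun y hy => by
      refine Submodule.mem_span_singleton.2 ⟨(ψ : G → ℂ) y, ?_⟩
      rw [Finset.smul_sum]
      exact Finset.sum_congr rfl fun φ hφ => by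
        rw [h.agree φ ((Set.Finite.mem_toFinset _).1 hφ) y hy]) hs'
  obtain ⟨a, ha, he⟩ := Star.exists_eqv_mem hs hi hBi
  obtain ⟨a', ha', he'⟩ := Star.exists_eqv_mem hs hi' hBi'
  exact (he.trans (hall a ha a' ha') hi.2.1 (hs.1 a' ha').2.1).trans he'.symm hi.2.1 hi'.2.1

/-- The trace of a primitive idempotent of the block is prime to `p`. -/
theorem not_memLocalIdeal_T (h : OneBrauer p M B ψ) (hM : Cfsg.IsPModular p M)
    {i : GA (Res M) G} (hi : Prim (⊤ : Subalgebra (Res M) (GA (Res M) G)) i)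
    (hBi : gblk M B * i = i) : ¬ Cfsg.MemLocalIdeal M (T M (ψ : G → ℂ) 1 i) := by
  classical
  intro hc
  have hcl := Characters.isClassFunction_of_isIrr ψ.2
  -- every idempotent of the block has its trace in the ideal
  have hall : ∀ f : GA (Res M) G, f * f = f → gblk M B * f = f →
      Cfsg.MemLocalIdeal M (T M (ψ : G → ℂ) 1 f) := by
    intro f hf hBf
    obtain ⟨t, ht⟩ := Star.exists_decomp (A := (⊤ : Subalgebra (Res M) (GA (Res M) G))) trivial hf
    rw [← ht.2.2, T_sum hcl 1 t (fun a => a) (fun a ha => (ht.1 a ha).2.1) ht.2.1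
      (fun a _ => conjA_one_left a)]
    refine CfsgLib.Blocks.memLocalIdeal_sum _ fun a ha => ?_
    have hBa : gblk M B * a = a := by rw [← (ht.mul_mem_eq ha).1, ← mul_assoc, hBf]
    obtain ⟨x, -, y, -, hxy, hyx⟩ := h.eqv (ht.1 a ha) hBa hi hBi
    rwa [T_equiv hcl (ht.1 a ha).2.1 hi.2.1 hxy hyx (conjA_one_left x) (conjA_one_left y)]
  have hBu := isBlockUnion_of_isPBlock h.block
  set F : MonoidAlgebra (localRing M) G :=
    (setIdemO M B (memLocalRing_blockCoeff hBu) : MonoidAlgebra (localRing M) G) with hF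
  have hFc : ∀ w, Commute F w := fun w =>
    (Subring.mem_center_iff.1 (setIdemO M B (memLocalRing_blockCoeff hBu)).2 w).symm
  have hFF : F * F = F := by
    rw [hF, ← Subring.coe_mul]
    congr 1
    exact CfsgLib.Blocks.ctr_ext_omegaO fun φ => by
      rw [map_mul, CfsgLib.Blocks.omegaO_setIdemO]; split_ifs <;> simp
  -- hence all regular values are in the ideal
  have hvan : ∀ y : G, ¬ p ∣ orderOf y → Cfsg.MemLocalIdeal M ((ψ : G → ℂ) y) := by
    intro y hy
    obtain ⟨m, e, c, he, -, hye⟩ := CfsgLib.Blocks.exists_idem_decomposition hM hy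
    have hval : tau M (ψ : G → ℂ) (MonoidAlgebra.single y 1) = (ψ : G → ℂ) y := by
      rw [tau_apply, Finset.sum_eq_single y (fun g _ hg => by simp [Ne.symm hg]) (by simp)]
      simp
    rw [← hval, ← if_pos (c := ψ ∈ B) (t := tau M (ψ : G → ℂ) (MonoidAlgebra.single y 1))
        (e := 0) h.mem, ← tau_mul_setIdemO ψ hBu, ← hF, hye, Finset.mul_sum, map_sum]
    refine CfsgLib.Blocks.memLocalIdeal_sum _ fun j _ => ?_
    have hsm : tau M (ψ : G → ℂ) (F * c j • e j) = (c j : ℂ) * tau M (ψ : G → ℂ) (F * e j) := by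
      rw [mul_smul_comm, tau_apply, tau_apply, Finset.mul_sum]
      exact Finset.sum_congr rfl fun g _ => by simp [mul_assoc]
    have hidem : F * e j * (F * e j) = F * e j := by
      rw [(hFc (e j)).symm.mul_mul_mul_comm, hFF, he]
    have hT := hall (rho M G (F * e j)) (by rw [← map_mul, hidem])
      (by rw [← gblk_eq hBu, ← hF, ← map_mul, ← mul_assoc, hFF])
    rw [T_eq hcl hidem ⟨by rw [← MonoidAlgebra.one_def]; exact Commute.one_left _, rfl⟩,
      ← MonoidAlgebra.one_def, one_mul] at hT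
    rw [hsm]
    exact CfsgLib.Blocks.memLocalIdeal_mul_left (c j).2 hT
  obtain ⟨φ, hφ, hmin, -⟩ := BlockPairing.exists_minimal (p := p) h.block
  refine BlockPairing.regSum_not_mem_of_minimal hM h.block hφ hmin h.mem ?_
  haveI := Fintype.ofFinite (ConjClasses G)
  rw [BlockPairing.regSum_eq_classes]
  refine CfsgLib.Blocks.memLocalIdeal_sum _ fun C _ => ?_
  split_ifs with hC
  · exact CfsgLib.Blocks.memLocalIdeal_zero
  · refine CfsgLib.Blocks.memLocalIdeal_mul_left (CfsgLib.Blocks.memLocalRing_centralChar _ _) ?_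
    rw [← Characters.character_inv (Characters.isCharacter_of_isIrr φ.2),
      h.agree φ hφ _ (by rwa [orderOf_inv])]
    exact hvan _ (by rwa [orderOf_inv])

end OneBrauer

end CfsgLib.HomocyclicBlock
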